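/-
Trace moments and the arithmetic at the end of the theorem of Feit and Higman.
-/
import Mathlib

set_option autoImplicit false

namespace CfsgLib.Chev.FH

open Module LinearMap

/-- If all nonzero eigenvalues are `m`-th roots of `z ^ m`, the geometric moments are integral. -/
lemma exists_nat_sum_trace {V : Type*} [AddCommGroup V] [Module ℂ V] [FiniteDimensional ℂ V]
    (f : Module.End ℂ V) {z : ℂ} (hz : z ≠ 0) {m : ℕ} (hm : 0 < m)
    (hev : ∀ μ, f.HasEigenvalue μ → μ = 0 ∨ μ ^ m = z ^ m) :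
    ∃ N : ℕ, ∑ j ∈ Finset.range m, LinearMap.trace ℂ V (f ^ j) * z⁻¹ ^ j = N := by
  classical
  have hind := f.independent_maxGenEigenspace
  have hds := DirectSum.isInternal_submodule_of_iSupIndep_of_iSup_eq_top hind
    (Module.End.iSup_maxGenEigenspace_eq_top f)
  have hfin : {μ | f.maxGenEigenspace μ ≠ ⊥}.Finite := WellFoundedGT.finite_ne_bot_of_iSupIndep hind
  have hmap : ∀ (j : ℕ) μ, Set.MapsTo (f ^ j) (f.maxGenEigenspace μ) (f.maxGenEigenspace μ) :=
    fun j μ => f.mapsTo_maxGenEigenspace_of_comm (Commute.pow_right rfl j) μ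
  have htr : ∀ (j : ℕ) μ, LinearMap.trace ℂ _ ((f ^ j).restrict (hmap j μ)) =
      μ ^ j * (finrank ℂ (f.maxGenEigenspace μ) : ℂ) := by
    intro j μ
    induction j with
    | zero =>
      have h0 : (f ^ 0).restrict (hmap 0 μ) = 1 := rfl
      rw [h0, LinearMap.trace_one, pow_zero, one_mul]
    | succ j ih =>
      have h1 : (f ^ (j + 1)).restrict (hmap (j + 1) μ) =
          (f ^ j).restrict (hmap j μ) ∘ₗ
            f.restrict (f.mapsTo_maxGenEigenspace_of_comm rfl μ) := by
        ext v; simp only [pow_succ]; rfl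
      rw [h1, trace_comp_eq_mul_of_commute_of_isNilpotent μ
        (LinearMap.restrict_commute (Commute.pow_left rfl j) _ _)
        (f.isNilpotent_restrict_maxGenEigenspace_sub_algebraMap μ), ih, pow_succ]
      ring
  have hsum : ∀ j : ℕ, LinearMap.trace ℂ V (f ^ j) =
      ∑ μ ∈ hfin.toFinset, μ ^ j * (finrank ℂ (f.maxGenEigenspace μ) : ℂ) := fun j => by
    rw [LinearMap.trace_eq_sum_trace_restrict' hds hfin (hmap j)]
    exact Finset.sum_congr rfl fun μ _ => htr j μ
  refine ⟨∑ μ ∈ hfin.toFinset, (if μ = 0 then 1 else if μ = z then m else 0) *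
    finrank ℂ (f.maxGenEigenspace μ), ?_⟩
  simp only [hsum, Finset.sum_mul]
  rw [Finset.sum_comm]
  push_cast
  refine Finset.sum_congr rfl fun μ hμ => ?_
  have he : f.HasEigenvalue μ := by
    rw [Set.Finite.mem_toFinset, Set.mem_setOf_eq] at hμ
    intro hbot
    apply hμ
    rw [Module.End.maxGenEigenspace_eq]
    by_contra h
    exact (Module.End.hasEigenvalue_of_hasGenEigenvalue
      (k := f.maxGenEigenspaceIndex μ) h) hbot
  have key : ∑ j ∈ Finset.range m, (μ / z) ^ j = if μ = 0 then 1 else if μ = z then (m : ℂ) else 0 := by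
    split_ifs with h0 h1
    · subst h0
      obtain ⟨k, rfl⟩ := Nat.exists_eq_succ_of_ne_zero hm.ne'
      simp [Finset.sum_range_succ']
    · subst h1
      simp [div_self hz]
    · rw [geom_sum_eq (by rw [Ne, div_eq_one_iff_eq hz]; exact h1), div_pow]
      rw [(hev μ he).resolve_left h0, div_self (pow_ne_zero _ hz), sub_self, zero_div]
  calc ∑ j ∈ Finset.range m, μ ^ j * (finrank ℂ (f.maxGenEigenspace μ) : ℂ) * z⁻¹ ^ j
      = (∑ j ∈ Finset.range m, (μ / z) ^ j) * (finrank ℂ (f.maxGenEigenspace μ) : ℂ) := by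
        rw [Finset.sum_mul]
        refine Finset.sum_congr rfl fun j _ => ?_
        rw [div_pow, inv_pow]; ring
    _ = _ := by rw [key]

/-- The key elimination: both `x` and `-x` give rational values, so `x` is rational. -/
lemma rational_of_two {Q R ν ν' : ℚ} {x : ℝ} (hQ : 1 < Q) (hR : 1 < R)
    (h1 : (ν : ℝ) * ((Q * R + 1 - x) * (Q + R + x)) =
      (Q * R - 1) ^ 2 * (Q + R + x) + (R - Q) ^ 2 * (Q * R + 1 - x))
    (h2 : (ν' : ℝ) * ((Q * R + 1 + x) * (Q + R - x)) =
      (Q * R - 1) ^ 2 * (Q + R - x) + (R - Q) ^ 2 * (Q * R + 1 + x))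
    (hx : x ^ 2 < 4 * (Q * R)) : ∃ t : ℚ, (t : ℝ) = x := by
  set c : ℚ := Q * R + 1 with hc
  set d : ℚ := Q + R with hd
  set a : ℚ := (Q * R - 1) ^ 2 with ha
  set b : ℚ := (R - Q) ^ 2 with hb
  have hcd : c ≠ d := by
    intro h
    have : (Q - 1) * (R - 1) = 0 := by rw [hc, hd] at h; linarith
    rcases mul_eq_zero.1 this with h' | h' <;> linarith
  have hapos : 0 < a := by
    have : 1 < Q * R := by nlinarith
    rw [ha]; exact pow_pos (by linarith) 2
  have hbnn : 0 ≤ b := sq_nonneg _
  have hdpos : 0 < d := by rw [hd]; linarith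
  have hcpos : 0 < c := by rw [hc]; nlinarith
  have e1 : (ν : ℝ) * ((c - x) * (d + x)) = a * (d + x) + b * (c - x) := by
    rw [ha, hb, hc, hd]; push_cast; linear_combination h1
  have e2 : (ν' : ℝ) * ((c + x) * (d - x)) = a * (d - x) + b * (c + x) := by
    rw [ha, hb, hc, hd]; push_cast; linear_combination h2
  by_contra hirr
  push Not at hirr
  have lin : ∀ u v : ℚ, (u : ℝ) * x + v = 0 → u = 0 ∧ v = 0 := by
    intro u v h
    rcases eq_or_ne u 0 with rfl | hu
    · refine ⟨rfl, ?_⟩
      simpa using h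
    · refine absurd ?_ (hirr (-v / u))
      have : (u : ℝ) ≠ 0 := by exact_mod_cast hu
      push_cast
      field_simp
      linear_combination -h
  have hν : ν ≠ 0 := by
    rintro rfl
    obtain ⟨u0, v0⟩ := lin (a - b) (a * d + b * c) (by push_cast at e1 ⊢; linear_combination -e1)
    nlinarith
  have hν' : ν' ≠ 0 := by
    rintro rfl
    obtain ⟨u0, v0⟩ := lin (b - a) (a * d + b * c) (by push_cast at e2 ⊢; linear_combination -e2)
    nlinarith
  set S : ℚ := c - d - (a - b) / ν with hS
  set S' : ℚ := c - d - (a - b) / ν' with hS'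
  set P : ℚ := c * d - (a * d + b * c) / ν with hP
  set P' : ℚ := c * d - (a * d + b * c) / ν' with hP'
  have hνR : (ν : ℝ) ≠ 0 := by exact_mod_cast hν
  have hνR' : (ν' : ℝ) ≠ 0 := by exact_mod_cast hν'
  have x1 : x ^ 2 = S * x + P := by
    rw [hS, hP]; push_cast; field_simp; linear_combination -e1
  have x2 : x ^ 2 = -S' * x + P' := by
    rw [hS', hP']; push_cast; field_simp; linear_combination -e2
  obtain ⟨hSS, hPP⟩ := lin (S + S') (P - P') (by push_cast; linear_combination x2 - x1)
  have hne : a * d + b * c ≠ 0 := by positivity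
  have hνν : ν = ν' := by
    have h0 : (a * d + b * c) / ν = (a * d + b * c) / ν' := by rw [hP, hP'] at hPP; linarith
    rw [div_eq_div_iff hν hν'] at h0
    exact (mul_left_cancel₀ hne h0.symm)
  subst hνν
  have hS0 : S = 0 := by rw [← hS'] at *; linarith
  have hν2 : ν = c + d := by
    rw [hS, sub_eq_zero, eq_div_iff hν] at hS0
    have : (c - d) * ν = (c - d) * (c + d) := by rw [hS0, ha, hb, hc, hd]; ring
    exact mul_left_cancel₀ (sub_ne_zero.2 hcd) this
  have hP4 : P = 4 * (Q * R) := by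
    rw [hP, hν2]
    have : c + d ≠ 0 := by positivity
    field_simp
    rw [ha, hb, hc, hd]; ring
  rw [hS0, hP4] at x1
  push_cast at x1
  linarith

end CfsgLib.Chev.FH
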