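/-
Representation theory of a dihedral Hecke algebra acting by rational symmetric matrices.
-/
import Cfsg.Agent.Lib.Chev.FH.Trace

set_option autoImplicit false
set_option linter.unusedSectionVars false

namespace CfsgLib.Chev.FH

open Matrix

section monoid

variable {M : Type*} [Monoid M]

/-- the alternating product `a b a ⋯` with `k` factors -/
def wd : M → M → ℕ → M
  | _, _, 0 => 1
  | a, b, k + 1 => a * wd b a k

lemma wd_zero (a b : M) : wd a b 0 = 1 := rfl

lemma wd_succ (a b : M) (k : ℕ) : wd a b (k + 1) = a * wd b a k := rfl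

lemma mul_swap_pow (a b : M) (i : ℕ) : a * (b * a) ^ i = (a * b) ^ i * a := by
  induction i with
  | zero => simp
  | succ i ih => rw [pow_succ', pow_succ', mul_assoc (a * b), ← ih]; simp [mul_assoc]

lemma wd_even (a b : M) : ∀ i : ℕ, wd a b (2 * i) = (a * b) ^ i := by
  intro i
  induction i with
  | zero => simp [wd]
  | succ i ih => rw [show 2 * (i + 1) = 2 * i + 1 + 1 by ring, wd, wd, ih, pow_succ', mul_assoc]

lemma wd_odd (a b : M) (i : ℕ) : wd a b (2 * i + 1) = (a * b) ^ i * a := by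
  rw [wd, wd_even, mul_swap_pow]

lemma map_wd {N F : Type*} [Monoid N] [FunLike F M N] [MonoidHomClass F M N] (f : F) :
    ∀ (k : ℕ) (a b : M), f (wd a b k) = wd (f a) (f b) k
  | 0, _, _ => map_one f
  | k + 1, a, b => by rw [wd, map_mul, map_wd f k, wd]

end monoid

section comm

variable {M : Type*} [CommMonoid M]

lemma wd_mul_wd : ∀ (k : ℕ) (a b c d : M), wd a b k * wd c d k = wd (a * c) (b * d) k
  | 0, _, _, _, _ => by simp [wd]
  | k + 1, a, b, c, d => by
    rw [wd, wd, wd, mul_mul_mul_comm, wd_mul_wd k]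

lemma wd_self (a : M) : ∀ k : ℕ, wd a a k = a ^ k
  | 0 => by simp [wd]
  | k + 1 => by rw [wd, wd_self a k, pow_succ']

end comm

lemma wd_pos : ∀ (k : ℕ) {a b : ℚ}, 0 < a → 0 < b → 0 < wd a b k
  | 0, _, _, _, _ => by simp [wd]
  | k + 1, _, _, ha, hb => by rw [wd]; exact mul_pos ha (wd_pos k hb ha)

lemma geom_even (a b : ℚ) : ∀ h : ℕ,
    (∑ k ∈ Finset.range (2 * h), wd b a k) * (1 - a * b) = (1 + b) * (1 - (a * b) ^ h)
  | 0 => by simp
  | h + 1 => by
    rw [show 2 * (h + 1) = 2 * h + 1 + 1 by ring, Finset.sum_range_succ, Finset.sum_range_succ,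
      wd_even, wd_odd, add_mul, add_mul, geom_even a b h]
    ring

variable {ι : Type*} [Fintype ι] [DecidableEq ι]

/-- the relations satisfied by the two operators -/
structure HData (X Y : Matrix ι ι ℚ) (q r : ℚ) (m : ℕ) : Prop where
  hX : X * X = (q - 1) • X + q • 1
  hY : Y * Y = (r - 1) • Y + r • 1
  hq : 1 < q
  hr : 1 < r
  hm : 2 ≤ m
  symX : Xᵀ = X
  symY : Yᵀ = Y
  braid : wd X Y m = wd Y X m
  trX : ∀ k, 1 ≤ k → k ≤ m → (wd X Y k).trace = 0
  trY : ∀ k, 1 ≤ k → k ≤ m → (wd Y X k).trace = 0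
  trM : ∀ j, 1 ≤ j → j < m → ((X * Y) ^ j).trace = 0
  qr : Odd m → q = r
  ne : Nonempty ι

/-- admissible character values -/
structure Valid (q r : ℚ) (m : ℕ) (c : ℚ × ℚ) : Prop where
  h1 : c.1 = q ∨ c.1 = -1
  h2 : c.2 = r ∨ c.2 = -1
  bal : wd (c.1 / q) (c.2 / r) m = wd (c.2 / r) (c.1 / q) m

variable {X Y : Matrix ι ι ℚ} {q r : ℚ} {m : ℕ}

variable (X Y q r m) in
/-- the quasi-idempotent of a character -/
def idem (c : ℚ × ℚ) : Matrix ι ι ℚ :=
  (1 + (c.1 / q) • X) * ∑ k ∈ Finset.range m, wd (c.2 / r) (c.1 / q) k • wd Y X k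

variable (q r m) in
/-- its norm -/
def schur (c : ℚ × ℚ) : ℚ :=
  (1 + c.1 / q * c.1) * ∑ k ∈ Finset.range m, wd (c.2 / r * c.2) (c.1 / q * c.1) k

lemma wd_transpose (hX : Xᵀ = X) (hY : Yᵀ = Y) (k : ℕ) :
    (wd X Y k)ᵀ = if Even k then wd Y X k else wd X Y k := by
  rcases Nat.even_or_odd' k with ⟨i, rfl | rfl⟩
  · rw [if_pos (by simp), wd_even, wd_even, Matrix.transpose_pow, Matrix.transpose_mul, hX, hY]
  · rw [if_neg (by simp), wd_odd, Matrix.transpose_mul, Matrix.transpose_pow, Matrix.transpose_mul,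
      hX, hY, mul_swap_pow]

namespace HData

variable (H : HData X Y q r m)
include H

lemma q0 : q ≠ 0 := (lt_trans zero_lt_one H.hq).ne'
lemma r0 : r ≠ 0 := (lt_trans zero_lt_one H.hr).ne'

lemma eq_sums (c : ℚ × ℚ) : idem X Y q r m c =
    ∑ k ∈ Finset.range m, (wd (c.2 / r) (c.1 / q) k • wd Y X k +
      wd (c.1 / q) (c.2 / r) (k + 1) • wd X Y (k + 1)) := by
  rw [idem, Finset.mul_sum]
  refine Finset.sum_congr rfl fun k _ => ?_
  rw [add_mul, one_mul, smul_mul_smul_comm, wd_succ, wd_succ]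

lemma eq_sums' {c : ℚ × ℚ} (hc : Valid q r m c) : idem X Y q r m c =
    ∑ k ∈ Finset.range m, (wd (c.1 / q) (c.2 / r) k • wd X Y k +
      wd (c.2 / r) (c.1 / q) (k + 1) • wd Y X (k + 1)) := by
  rw [H.eq_sums, ← sub_eq_zero, ← Finset.sum_sub_distrib]
  set A : ℕ → Matrix ι ι ℚ := fun k => wd (c.1 / q) (c.2 / r) k • wd X Y k with hA
  set B : ℕ → Matrix ι ι ℚ := fun k => wd (c.2 / r) (c.1 / q) k • wd Y X k with hB
  have : ∀ k, wd (c.2 / r) (c.1 / q) k • wd Y X k + wd (c.1 / q) (c.2 / r) (k + 1) • wd X Y (k + 1) -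
      (wd (c.1 / q) (c.2 / r) k • wd X Y k + wd (c.2 / r) (c.1 / q) (k + 1) • wd Y X (k + 1)) =
      (A (k + 1) - B (k + 1)) - (A k - B k) := fun k => by simp only [hA, hB]; abel
  rw [Finset.sum_congr rfl fun k _ => this k, Finset.sum_range_sub (fun k => A k - B k)]
  simp [hA, hB, hc.bal, H.braid, wd_zero]

lemma idem_transpose {c : ℚ × ℚ} (hc : Valid q r m c) :
    (idem X Y q r m c)ᵀ = idem X Y q r m c := by
  set C : ℕ → Matrix ι ι ℚ := fun k =>
    wd (c.1 / q) (c.2 / r) k • wd X Y k + wd (c.2 / r) (c.1 / q) k • wd Y X k with hC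
  have h2 : (2 : ℚ) • idem X Y q r m c = ∑ k ∈ Finset.range m, (C k + C (k + 1)) := by
    rw [two_smul]
    conv_lhs => arg 1; rw [H.eq_sums]
    conv_lhs => arg 2; rw [H.eq_sums' hc]
    rw [← Finset.sum_add_distrib]
    refine Finset.sum_congr rfl fun k _ => ?_
    simp only [hC]; abel
  have hsym : ∀ k, (C k)ᵀ = C k := by
    intro k
    simp only [hC, Matrix.transpose_add, Matrix.transpose_smul, wd_transpose H.symX H.symY,
      wd_transpose H.symY H.symX]
    split_ifs with hk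
    · obtain ⟨i, rfl⟩ := hk
      rw [← two_mul, wd_even, wd_even (a := c.2 / r), mul_comm (c.2 / r), add_comm]
    · rfl
  have := congrArg Matrix.transpose h2
  rw [Matrix.transpose_sum, Matrix.transpose_smul] at this
  simp only [Matrix.transpose_add, hsym, ← h2] at this
  exact smul_right_injective _ (two_ne_zero) this

lemma X_idem {c : ℚ × ℚ} (hc : Valid q r m c) :
    X * idem X Y q r m c = c.1 • idem X Y q r m c := by
  have hq := H.q0
  have key : X * (1 + (c.1 / q) • X) = c.1 • (1 + (c.1 / q) • X) := by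
    rw [mul_add, mul_one, mul_smul_comm, H.hX]
    have h1 : c.1 / q * q = c.1 := div_mul_cancel₀ _ hq
    have h2 : 1 + c.1 / q * (q - 1) = c.1 * (c.1 / q) := by
      rcases hc.h1 with e | e <;> rw [e] <;> field_simp <;> ring
    rw [smul_add, smul_add, smul_smul, smul_smul, smul_smul, h1, ← h2, add_smul, one_smul]
    abel
  rw [idem, ← mul_assoc, key, smul_mul_assoc]

lemma Y_idem {c : ℚ × ℚ} (hc : Valid q r m c) :
    Y * idem X Y q r m c = c.2 • idem X Y q r m c := by
  have hr := H.r0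
  have key : Y * (1 + (c.2 / r) • Y) = c.2 • (1 + (c.2 / r) • Y) := by
    rw [mul_add, mul_one, mul_smul_comm, H.hY]
    have h1 : c.2 / r * r = c.2 := div_mul_cancel₀ _ hr
    have h2 : 1 + c.2 / r * (r - 1) = c.2 * (c.2 / r) := by
      rcases hc.h2 with e | e <;> rw [e] <;> field_simp <;> ring
    rw [smul_add, smul_add, smul_smul, smul_smul, smul_smul, h1, ← h2, add_smul, one_smul]
    abel
  have : idem X Y q r m c =
      (1 + (c.2 / r) • Y) * ∑ k ∈ Finset.range m, wd (c.1 / q) (c.2 / r) k • wd X Y k := by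
    rw [H.eq_sums' hc, Finset.mul_sum]
    refine Finset.sum_congr rfl fun k _ => ?_
    rw [add_mul, one_mul, smul_mul_smul_comm, wd_succ, wd_succ]
  rw [this, ← mul_assoc, key, smul_mul_assoc]

lemma idem_X {c : ℚ × ℚ} (hc : Valid q r m c) :
    idem X Y q r m c * X = c.1 • idem X Y q r m c := by
  have := congrArg Matrix.transpose (H.X_idem hc)
  rwa [Matrix.transpose_mul, Matrix.transpose_smul, H.idem_transpose hc, H.symX] at this

lemma idem_Y {c : ℚ × ℚ} (hc : Valid q r m c) :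
    idem X Y q r m c * Y = c.2 • idem X Y q r m c := by
  have := congrArg Matrix.transpose (H.Y_idem hc)
  rwa [Matrix.transpose_mul, Matrix.transpose_smul, H.idem_transpose hc, H.symY] at this

lemma wd_idem {c : ℚ × ℚ} (hc : Valid q r m c) : ∀ k,
    wd X Y k * idem X Y q r m c = wd c.1 c.2 k • idem X Y q r m c ∧
    wd Y X k * idem X Y q r m c = wd c.2 c.1 k • idem X Y q r m c
  | 0 => by simp [wd]
  | k + 1 => by
    obtain ⟨h1, h2⟩ := wd_idem hc k
    constructor
    · rw [wd_succ, mul_assoc, h2, mul_smul_comm, H.X_idem hc, smul_smul, wd_succ, mul_comm c.1]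
    · rw [wd_succ, mul_assoc, h1, mul_smul_comm, H.Y_idem hc, smul_smul, wd_succ, mul_comm c.2]

lemma idem_sq {c : ℚ × ℚ} (hc : Valid q r m c) :
    idem X Y q r m c * idem X Y q r m c = schur q r m c • idem X Y q r m c := by
  conv_lhs => arg 1; rw [idem]
  rw [mul_assoc, Finset.sum_mul]
  simp only [smul_mul_assoc, (H.wd_idem hc _).2, smul_smul, wd_mul_wd]
  rw [← Finset.sum_smul, mul_smul_comm, add_mul, one_mul, smul_mul_assoc, H.X_idem hc, smul_smul,
    schur]
  rw [show idem X Y q r m c + (c.1 / q * c.1) • idem X Y q r m c =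
    (1 + c.1 / q * c.1) • idem X Y q r m c by rw [add_smul, one_smul], smul_smul, mul_comm]

lemma idem_trace (c : ℚ × ℚ) : (idem X Y q r m c).trace = Fintype.card ι := by
  rw [H.eq_sums, Matrix.trace_sum, Finset.sum_eq_single 0]
  · rw [Matrix.trace_add, Matrix.trace_smul, Matrix.trace_smul, H.trX 1 le_rfl (by have := H.hm; omega)]
    simp [wd_zero, Matrix.trace_one]
  · intro k hk hk0
    have := Finset.mem_range.1 hk
    rw [Matrix.trace_add, Matrix.trace_smul, Matrix.trace_smul, H.trY k (by omega) (by omega),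
      H.trX (k + 1) (by omega) (by omega)]
    simp
  · intro h
    have := H.hm
    simp at h
    omega

lemma schur_pos {c : ℚ × ℚ} (hc : Valid q r m c) : 0 < schur q r m c := by
  have hq := lt_trans zero_lt_one H.hq
  have hr := lt_trans zero_lt_one H.hr
  have h1 : 0 < c.1 / q * c.1 := by
    rw [div_mul_eq_mul_div]
    refine div_pos ?_ hq
    rcases hc.h1 with e | e <;> rw [e] <;> positivity
  have h2 : 0 < c.2 / r * c.2 := by
    rw [div_mul_eq_mul_div]
    refine div_pos ?_ hr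
    rcases hc.h2 with e | e <;> rw [e] <;> positivity
  refine mul_pos (by linarith) (Finset.sum_pos (fun k _ => wd_pos k h2 h1) ?_)
  exact ⟨0, Finset.mem_range.2 (by have := H.hm; omega)⟩

lemma idem_orth {c d : ℚ × ℚ} (hc : Valid q r m c) (hd : Valid q r m d) (hne : c ≠ d) :
    idem X Y q r m c * idem X Y q r m d = 0 := by
  set e := idem X Y q r m c * idem X Y q r m d with he
  have h1 : c.1 • e = d.1 • e := by
    rw [he, ← smul_mul_assoc, ← H.idem_X hc, mul_assoc, H.X_idem hd, mul_smul_comm]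
  have h2 : c.2 • e = d.2 • e := by
    rw [he, ← smul_mul_assoc, ← H.idem_Y hc, mul_assoc, H.Y_idem hd, mul_smul_comm]
  by_contra he0
  exact hne (Prod.ext (smul_left_injective ℚ he0 h1) (smul_left_injective ℚ he0 h2))

/-- the moments of the part of `X Y` away from the linear characters are integral -/
theorem rational_moments (C : Finset (ℚ × ℚ)) (hC : ∀ c ∈ C, Valid q r m c)
    (hall : ∀ x y : ℚ, (x = q ∨ x = -1) → (y = r ∨ y = -1) → wd x y m = wd y x m → (x, y) ∈ C)
    {z : ℂ} (hz : z ≠ 0) {h : ℕ}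
    (hpar : (m = 2 * h ∧ z ^ m = ((q * r : ℚ) : ℂ) ^ h) ∨
      (m = 2 * h + 1 ∧ z ^ m = (q : ℂ) ^ m)) :
    ∃ ν : ℚ, ∑ c ∈ C, ((schur q r m c)⁻¹ : ℂ) * ∑ j ∈ Finset.range m, ((c.1 * c.2 : ℂ) / z) ^ j =
      (ν : ℂ) := by
  classical
  have hq0 : (q : ℂ) ≠ 0 := by exact_mod_cast H.q0
  have hr0 : (r : ℂ) ≠ 0 := by exact_mod_cast H.r0
  set e := idem X Y q r m with hedef
  set S := schur q r m with hSdef
  set E := ∑ c ∈ C, (S c)⁻¹ • e c with hE
  have heE : ∀ c ∈ C, E * e c = e c := by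
    intro c hc
    rw [hE, Finset.sum_mul, Finset.sum_eq_single c]
    · rw [smul_mul_assoc, H.idem_sq (hC c hc), smul_smul, inv_mul_cancel₀ (H.schur_pos (hC c hc)).ne',
        one_smul]
    · intro d hd hne
      rw [smul_mul_assoc, H.idem_orth (hC d hd) (hC c hc) hne, smul_zero]
    · exact absurd hc
  have hEE : E * E = E := by
    conv_lhs => arg 2; rw [hE]
    rw [Finset.mul_sum, hE]
    exact Finset.sum_congr rfl fun c hc => by rw [mul_smul_comm, ← hE, heE c hc]
  have hMe : ∀ c ∈ C, (X * Y) * e c = (c.1 * c.2) • e c := fun c hc => by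
    rw [mul_assoc, H.Y_idem (hC c hc), mul_smul_comm, H.X_idem (hC c hc), smul_smul, mul_comm]
  have heM : ∀ c ∈ C, e c * (X * Y) = (c.1 * c.2) • e c := fun c hc => by
    rw [← mul_assoc, H.idem_X (hC c hc), smul_mul_assoc, H.idem_Y (hC c hc), smul_smul]
  have hEM : E * (X * Y) = (X * Y) * E := by
    rw [hE, Finset.sum_mul, Finset.mul_sum]
    exact Finset.sum_congr rfl fun c hc => by rw [smul_mul_assoc, mul_smul_comm, hMe c hc, heM c hc]
  have hMj : ∀ (j : ℕ), ∀ c ∈ C, (X * Y) ^ j * e c = (c.1 * c.2) ^ j • e c := by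
    intro j c hc
    induction j with
    | zero => simp
    | succ j ih => rw [pow_succ, mul_assoc, hMe c hc, mul_smul_comm, ih, smul_smul, pow_succ']
  set M0 := (X * Y) * (1 - E) with hM0
  have hEM0 : E * M0 = 0 := by
    rw [hM0, ← mul_assoc, hEM, mul_assoc, mul_sub, mul_one, hEE, sub_self, mul_zero]
  have hpow : ∀ j, M0 ^ (j + 1) = (X * Y) ^ (j + 1) * (1 - E) := by
    intro j
    induction j with
    | zero => simp [hM0]
    | succ j ih =>
      rw [pow_succ, ih, mul_assoc, sub_mul, one_mul, hEM0, sub_zero, hM0, ← mul_assoc, ← pow_succ]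
  have htr : ∀ j, 1 ≤ j → j < m →
      (M0 ^ j).trace = -∑ c ∈ C, (S c)⁻¹ * (c.1 * c.2) ^ j * Fintype.card ι := by
    intro j h1 h2
    obtain ⟨i, rfl⟩ := Nat.exists_eq_add_of_le' h1
    rw [hpow, mul_sub, mul_one, Matrix.trace_sub, H.trM _ h1 h2, zero_sub, hE, Finset.mul_sum,
      Matrix.trace_sum]
    congr 1
    refine Finset.sum_congr rfl fun c hc => ?_
    rw [mul_smul_comm, hMj _ c hc, smul_smul, Matrix.trace_smul, H.idem_trace, smul_eq_mul]
  -- pass to the complex numbers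
  let φ : Matrix ι ι ℚ →+* Matrix ι ι ℂ := (algebraMap ℚ ℂ).mapMatrix
  have hφs : ∀ (a : ℚ) (A : Matrix ι ι ℚ), φ (a • A) = (a : ℂ) • φ A := by
    intro a A; ext i j; simp [φ]
  let T : Module.End ℂ (ι → ℂ) := Matrix.toLinAlgEquiv' (φ M0)
  have hev : ∀ μ, T.HasEigenvalue μ → μ = 0 ∨ μ ^ m = z ^ m := by
    intro μ hμ
    rw [or_iff_not_imp_left]
    intro hμ0
    obtain ⟨v, hv⟩ := hμ.exists_hasEigenvector
    have hTv : φ M0 *ᵥ v = μ • v := hv.apply_eq_smul
    have hv0 : v ≠ 0 := hv.2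
    have hEv : φ E *ᵥ v = 0 := by
      have : μ • (φ E *ᵥ v) = 0 := by
        rw [← Matrix.mulVec_smul, ← hTv, Matrix.mulVec_mulVec, ← map_mul, hEM0, map_zero,
          Matrix.zero_mulVec]
      exact (smul_eq_zero.1 this).resolve_left hμ0
    have hMv : φ X *ᵥ (φ Y *ᵥ v) = μ • v := by
      have : φ M0 *ᵥ v = φ X *ᵥ (φ Y *ᵥ v) := by
        rw [hM0, map_mul, map_sub, map_one, ← Matrix.mulVec_mulVec, Matrix.sub_mulVec,
          Matrix.one_mulVec, hEv, sub_zero, map_mul, ← Matrix.mulVec_mulVec]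
      rw [← this, hTv]
    have sqX : ∀ u, φ X *ᵥ (φ X *ᵥ u) = ((q : ℂ) - 1) • (φ X *ᵥ u) + (q : ℂ) • u := by
      intro u
      rw [Matrix.mulVec_mulVec, ← map_mul, H.hX, map_add, hφs, hφs, map_one, Matrix.add_mulVec,
        Matrix.smul_mulVec, Matrix.smul_mulVec, Matrix.one_mulVec]
      push_cast; rfl
    have sqY : ∀ u, φ Y *ᵥ (φ Y *ᵥ u) = ((r : ℂ) - 1) • (φ Y *ᵥ u) + (r : ℂ) • u := by
      intro u
      rw [Matrix.mulVec_mulVec, ← map_mul, H.hY, map_add, hφs, hφs, map_one, Matrix.add_mulVec,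
        Matrix.smul_mulVec, Matrix.smul_mulVec, Matrix.one_mulVec]
      push_cast; rfl
    have hYv : φ Y *ᵥ v = (μ / q) • (φ X *ᵥ v) - (μ * ((q : ℂ) - 1) / q) • v := by
      have h := sqX (φ Y *ᵥ v)
      rw [hMv, Matrix.mulVec_smul] at h
      calc φ Y *ᵥ v = (q : ℂ)⁻¹ • ((q : ℂ) • (φ Y *ᵥ v)) := (inv_smul_smul₀ hq0 _).symm
        _ = (q : ℂ)⁻¹ • (μ • (φ X *ᵥ v) - ((q : ℂ) - 1) • μ • v) := by rw [h, add_sub_cancel_left]
        _ = _ := by
          rw [smul_sub, smul_smul, smul_smul, smul_smul]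
          congr 2 <;> ring
    by_cases hdep : ∃ x : ℂ, φ X *ᵥ v = x • v
    · exfalso
      obtain ⟨x, hx⟩ := hdep
      have hxq : x = (q : ℂ) ∨ x = ((-1 : ℚ) : ℂ) := by
        have h := sqX v
        rw [hx, Matrix.mulVec_smul, hx, smul_smul, smul_smul, ← add_smul] at h
        have h' : (x - q) * (x + 1) = 0 := by linear_combination (smul_left_injective ℂ hv0 h)
        rcases mul_eq_zero.1 h' with h' | h'
        · exact Or.inl (sub_eq_zero.1 h')
        · exact Or.inr (by push_cast; linear_combination h')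
      rw [hx, smul_smul, ← sub_smul] at hYv
      set y := μ / q * x - μ * ((q : ℂ) - 1) / q with hy
      have hyr : y = (r : ℂ) ∨ y = ((-1 : ℚ) : ℂ) := by
        have h := sqY v
        rw [hYv, Matrix.mulVec_smul, hYv, smul_smul, smul_smul, ← add_smul] at h
        have h' : (y - r) * (y + 1) = 0 := by linear_combination (smul_left_injective ℂ hv0 h)
        rcases mul_eq_zero.1 h' with h' | h'
        · exact Or.inl (sub_eq_zero.1 h')
        · exact Or.inr (by push_cast; linear_combination h')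
      obtain ⟨xq, rfl, hxq'⟩ : ∃ a : ℚ, x = (a : ℂ) ∧ (a = q ∨ a = -1) :=
        hxq.elim (fun e => ⟨q, e, Or.inl rfl⟩) (fun e => ⟨-1, e, Or.inr rfl⟩)
      obtain ⟨yq, hyq, hyq'⟩ : ∃ a : ℚ, y = (a : ℂ) ∧ (a = r ∨ a = -1) :=
        hyr.elim (fun e => ⟨r, e, Or.inl rfl⟩) (fun e => ⟨-1, e, Or.inr rfl⟩)
      rw [hyq] at hYv
      have hwd : ∀ k, φ (wd X Y k) *ᵥ v = ((wd xq yq k : ℚ) : ℂ) • v ∧
          φ (wd Y X k) *ᵥ v = ((wd yq xq k : ℚ) : ℂ) • v := by
        intro k
        induction k with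
        | zero => simp [wd_zero]
        | succ k ih =>
          constructor
          · rw [wd_succ, map_mul, ← Matrix.mulVec_mulVec, ih.2, Matrix.mulVec_smul, hx, smul_smul,
              wd_succ]
            push_cast; rw [mul_comm]
          · rw [wd_succ, map_mul, ← Matrix.mulVec_mulVec, ih.1, Matrix.mulVec_smul, hYv, smul_smul,
              wd_succ]
            push_cast; rw [mul_comm]
      have hbal : wd xq yq m = wd yq xq m := by
        have h1 := (hwd m).1
        rw [H.braid, (hwd m).2] at h1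
        exact_mod_cast (smul_left_injective ℂ hv0 h1).symm
      have hcC := hall xq yq hxq' hyq' hbal
      have hev' : φ (e (xq, yq)) *ᵥ v = (S (xq, yq) : ℂ) • v := by
        simp only [hedef, idem, map_mul, map_add, map_one, map_sum, hφs]
        rw [← Matrix.mulVec_mulVec, Matrix.sum_mulVec]
        simp only [Matrix.smul_mulVec, (hwd _).2, smul_smul]
        rw [← Finset.sum_smul, Matrix.mulVec_smul, Matrix.add_mulVec, Matrix.one_mulVec,
          Matrix.smul_mulVec, hx, smul_smul]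
        rw [show ∀ a : ℂ, v + a • v = (1 + a) • v from fun a => by rw [add_smul, one_smul],
          smul_smul]
        congr 1
        simp only [hSdef, schur]
        push_cast
        rw [mul_comm]
        congr 1
        refine Finset.sum_congr rfl fun k _ => ?_
        rw [← Rat.cast_mul, wd_mul_wd]
      have : (S (xq, yq) : ℂ) • v = 0 := by
        rw [← hev', ← heE _ hcC, map_mul, ← Matrix.mulVec_mulVec, hev', Matrix.mulVec_smul, hEv,
          smul_zero]
      rcases smul_eq_zero.1 this with h' | h'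
      · exact (H.schur_pos (hC _ hcC)).ne' (by exact_mod_cast h')
      · exact hv0 h'
    · push Not at hdep
      set w := φ X *ᵥ v with hw
      have indep : ∀ a b : ℂ, a • v + b • w = 0 → a = 0 ∧ b = 0 := by
        intro a b hab
        rcases eq_or_ne b 0 with rfl | hb
        · rw [zero_smul, add_zero] at hab
          exact ⟨(smul_eq_zero.1 hab).resolve_right hv0, rfl⟩
        · refine absurd ?_ (hdep (-a / b))
          calc w = b⁻¹ • (b • w) := (inv_smul_smul₀ hb w).symm
            _ = b⁻¹ • (-(a • v)) := by rw [eq_neg_of_add_eq_zero_right hab]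
            _ = (-a / b) • v := by rw [← neg_smul, smul_smul]; congr 1; ring
      have hYw : ∃ α : ℂ, φ Y *ᵥ w = α • (φ Y *ᵥ v) + ((q : ℂ) * r / μ) • v := by
        refine ⟨((q : ℂ) - 1) + q / μ * ((r : ℂ) - 1), ?_⟩
        have h := sqY v
        conv_lhs at h => rw [hYv, Matrix.mulVec_sub, Matrix.mulVec_smul, Matrix.mulVec_smul]
        have hμq : μ / (q : ℂ) ≠ 0 := div_ne_zero hμ0 hq0
        have h' := eq_add_of_sub_eq h
        calc φ Y *ᵥ w = (μ / (q : ℂ))⁻¹ • ((μ / (q : ℂ)) • (φ Y *ᵥ w)) :=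
              (inv_smul_smul₀ hμq _).symm
          _ = _ := by
            rw [h']
            rw [show ((r : ℂ) - 1) • (φ Y *ᵥ v) + (r : ℂ) • v + (μ * ((q : ℂ) - 1) / q) • (φ Y *ᵥ v) =
              (((r : ℂ) - 1) + μ * ((q : ℂ) - 1) / q) • (φ Y *ᵥ v) + (r : ℂ) • v by
              rw [add_smul]; abel, smul_add, smul_smul, smul_smul]
            congr 2 <;> field_simp <;> ring
      obtain ⟨α, hYw⟩ := hYw
      set ν : ℂ := (q : ℂ) * r / μ with hν
      have hMw : φ (X * Y) *ᵥ w = (α * μ) • v + ν • w := by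
        rw [map_mul, ← Matrix.mulVec_mulVec, hYw, Matrix.mulVec_add, Matrix.mulVec_smul, hMv,
          Matrix.mulVec_smul, smul_smul]
      have hMv' : φ (X * Y) *ᵥ v = μ • v := by rw [map_mul, ← Matrix.mulVec_mulVec, hMv]
      have hk : ∀ k, φ ((X * Y) ^ k) *ᵥ v = μ ^ k • v ∧
          ∃ β : ℂ, φ ((X * Y) ^ k) *ᵥ w = β • v + ν ^ k • w := by
        intro k
        induction k with
        | zero => exact ⟨by simp, 0, by simp⟩
        | succ k ih =>
          obtain ⟨h1, β, h2⟩ := ih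
          refine ⟨?_, β * μ + ν ^ k * (α * μ), ?_⟩
          · rw [pow_succ', map_mul, ← Matrix.mulVec_mulVec, h1, Matrix.mulVec_smul, hMv', smul_smul,
              pow_succ]
          · rw [pow_succ', map_mul, ← Matrix.mulVec_mulVec, h2, Matrix.mulVec_add, Matrix.mulVec_smul,
              Matrix.mulVec_smul, hMv', hMw, smul_add, smul_smul, smul_smul, smul_smul, ← add_assoc,
              ← add_smul, pow_succ]
      obtain ⟨hkv, β, hkw⟩ := hk h
      rcases hpar with ⟨hm2, hzm⟩ | ⟨hm2, hzm⟩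
      · have hcomm : X * (X * Y) ^ h = (X * Y) ^ h * X := by
          have hb := H.braid
          rw [hm2, wd_even, wd_even] at hb
          conv_lhs => rw [hb]
          rw [mul_swap_pow]
        have h1 : φ ((X * Y) ^ h) *ᵥ w = μ ^ h • w := by
          rw [hw, Matrix.mulVec_mulVec, ← map_mul, ← hcomm, map_mul, ← Matrix.mulVec_mulVec, hkv,
            Matrix.mulVec_smul]
        rw [hkw] at h1
        obtain ⟨-, h2⟩ := indep β (ν ^ h - μ ^ h) (by rw [sub_smul, ← add_sub_assoc, h1, sub_self])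
        rw [hzm, hm2, two_mul, pow_add]
        have h3 : ν * μ = ((q * r : ℚ) : ℂ) := by rw [hν]; push_cast; field_simp
        rw [← h3, mul_pow, sub_eq_zero.1 h2]
      · have hbr : X * ((X * Y) ^ h * X) = (X * Y) ^ (h + 1) := by
          have hb := H.braid
          rw [hm2, wd_odd, wd_odd] at hb
          rw [hb, ← mul_assoc, mul_swap_pow, mul_assoc, ← pow_succ]
        obtain ⟨hkv', -⟩ := hk (h + 1)
        rw [← hbr, map_mul, map_mul, ← Matrix.mulVec_mulVec, ← Matrix.mulVec_mulVec, ← hw, hkw,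
          Matrix.mulVec_add, Matrix.mulVec_smul, Matrix.mulVec_smul, ← hw] at hkv'
        rw [show φ X *ᵥ w = ((q : ℂ) - 1) • w + (q : ℂ) • v from sqX v] at hkv'
        obtain ⟨h2, -⟩ := indep (ν ^ h * q - μ ^ (h + 1)) (β + ν ^ h * ((q : ℂ) - 1)) (by
          rw [sub_smul, add_smul, ← hkv', smul_add, smul_smul, smul_smul]; abel)
        have hqr : r = q := (H.qr ⟨h, hm2⟩).symm
        rw [hzm, hm2, two_mul, show h + h + 1 = h + (h + 1) by ring, pow_add μ, ← sub_eq_zero.1 h2,
          hν, hqr, div_pow]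
        field_simp
        ring
  obtain ⟨N, hN⟩ := exists_nat_sum_trace T hz (by have := H.hm; omega) hev
  have hT : ∀ j, LinearMap.trace ℂ (ι → ℂ) (T ^ j) = ((M0 ^ j).trace : ℂ) := by
    intro j
    show LinearMap.trace ℂ _ (Matrix.toLinAlgEquiv' (φ M0) ^ j) = _
    rw [← map_pow, ← map_pow]
    refine (Matrix.trace_toLin'_eq _).trans ?_
    simp only [Matrix.trace, Matrix.diag_apply, φ, RingHom.mapMatrix_apply, Matrix.map_apply]
    push_cast; rfl
  have hcard : (Fintype.card ι : ℂ) ≠ 0 := by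
    have := H.ne
    exact_mod_cast Fintype.card_ne_zero
  refine ⟨∑ c ∈ C, (S c)⁻¹ + ((Fintype.card ι : ℚ) - N) / Fintype.card ι, ?_⟩
  obtain ⟨m', rfl⟩ := Nat.exists_eq_add_of_le' (show 1 ≤ m by have := H.hm; omega)
  rw [Finset.sum_range_succ'] at hN
  simp only [hT] at hN
  simp only [pow_zero, Matrix.trace_one, mul_one] at hN
  push_cast at hN
  have e1 : ∀ i ∈ Finset.range m', ((M0 ^ (i + 1)).trace : ℂ) * z⁻¹ ^ (i + 1) =
      -((Fintype.card ι : ℂ) * ∑ c ∈ C, ((S c : ℂ))⁻¹ * ((c.1 * c.2 : ℂ) / z) ^ (i + 1)) := by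
    intro i hi
    rw [htr (i + 1) (by omega) (by have := Finset.mem_range.1 hi; omega)]
    push_cast
    rw [neg_mul, Finset.sum_mul, Finset.mul_sum]
    congr 1
    refine Finset.sum_congr rfl fun c _ => ?_
    rw [div_pow, inv_pow]; ring
  rw [Finset.sum_congr rfl e1, Finset.sum_neg_distrib, ← Finset.mul_sum, Finset.sum_comm] at hN
  push_cast at hN ⊢
  simp only [← hSdef, Finset.sum_range_succ', pow_zero, mul_add, mul_one, Finset.sum_add_distrib]
  rw [Finset.sum_congr rfl fun c _ => Finset.mul_sum .., ← hN]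
  field_simp
  ring

end HData

end CfsgLib.Chev.FH
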