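/-
The incidence operators of a (B,N)-pair of rank two and their relations.
-/
import Cfsg.Agent.Lib.Chev.BNBasic

set_option autoImplicit false
set_option linter.unusedSectionVars false

namespace CfsgLib.Chev.FH

open Cfsg CfsgLib.Chev.BN Matrix

variable {G : Type*} [Group G] {P : Cfsg.BNPair G} [Fintype (G ⧸ P.B)]

local notation "Ω" => G ⧸ P.B

variable (P) in
open scoped Classical in
/-- the operator of a double coset -/
noncomputable def op (n : G) : Matrix (G ⧸ P.B) (G ⧸ P.B) ℚ :=
  Matrix.of fun x y => if x.out⁻¹ * y.out ∈ cell P n then 1 else 0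

lemma cell_rep {g h g' h' n : G} (hg : (g : Ω) = (g' : Ω)) (hh : (h : Ω) = (h' : Ω)) :
    g⁻¹ * h ∈ cell P n ↔ g'⁻¹ * h' ∈ cell P n := by
  rw [QuotientGroup.eq] at hg hh
  constructor <;> intro e
  · have := mul_mem_cell_right hh (mul_mem_cell_left (inv_mem hg) e)
    simpa [mul_assoc] using this
  · have := mul_mem_cell_right (inv_mem hh) (mul_mem_cell_left hg e)
    simpa [mul_assoc] using this

open scoped Classical in
lemma op_apply (n g h : G) :
    op P n (g : Ω) (h : Ω) = if g⁻¹ * h ∈ cell P n then 1 else 0 := by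
  rw [op, Matrix.of_apply]
  congr 1
  exact propext (cell_rep (QuotientGroup.out_eq' _) (QuotientGroup.out_eq' _))

lemma op_congr {n n' : G} (e : Eqv P n n') : op P n = op P n' := by
  rw [op, op, cell_eq_of_eqv e]

open scoped Classical in
lemma op_eq_one {n : G} (hn : n ∈ P.B) : op P n = 1 := by
  ext x y
  induction x using QuotientGroup.induction_on with | _ g => ?_
  induction y using QuotientGroup.induction_on with | _ h => ?_
  rw [op_apply, cell_eq_B hn, Matrix.one_apply]
  simp only [QuotientGroup.eq, SetLike.mem_coe]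

open scoped Classical in
lemma mul_op_apply (n n' g h : G) : (op P n * op P n') (g : Ω) (h : Ω) =
    ((Finset.univ.filter fun y : Ω =>
      g⁻¹ * y.out ∈ cell P n ∧ y.out⁻¹ * h ∈ cell P n').card : ℚ) := by
  rw [Matrix.mul_apply, ← Finset.sum_boole]
  refine Finset.sum_congr rfl fun y _ => ?_
  conv_lhs => rw [← QuotientGroup.out_eq' y, op_apply, op_apply]
  by_cases h1 : g⁻¹ * y.out ∈ cell P n <;> by_cases h2 : y.out⁻¹ * h ∈ cell P n' <;> simp [h1, h2]

lemma inv_mem_cell {u n : G} (h : u ∈ cell P n) : u⁻¹ ∈ cell P n⁻¹ := by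
  obtain ⟨b, hb, b', hb', rfl⟩ := mem_cell.1 h
  exact mem_cell.2 ⟨b'⁻¹, inv_mem hb', b⁻¹, inv_mem hb, by group⟩

lemma inv_mem_cell_S {s u : G} (hs : s ∈ P.S) (h : u ∈ cell P s) : u⁻¹ ∈ cell P s := by
  have := inv_mem_cell h
  rwa [cell_eq_of_eqv (inv_eqv_self hs)] at this

lemma mul_cell_S {s u v : G} (hs : s ∈ P.S) (hu : u ∈ cell P s) (hv : v ∈ cell P s) :
    u * v ∈ P.B ∨ u * v ∈ cell P s := by
  obtain ⟨b, hb, b', hb', rfl⟩ := mem_cell.1 hu
  have e : b * s * b' * v = b * (s * (b' * v)) := by group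
  rw [e]
  rcases left_rule_cell hs (P.subset hs) (mul_mem_cell_left hb' hv) with h | h
  · left
    rw [cell_eq_B (P.sq_mem s hs)] at h
    exact mul_mem hb h
  · exact Or.inr (mul_mem_cell_left hb h)

lemma mul_cell_up {s n u v : G} (hs : s ∈ P.S) (hn : n ∈ P.N) (hl : len P n ≤ len P (s * n))
    (hu : u ∈ cell P s) (hv : v ∈ cell P n) : u * v ∈ cell P (s * n) := by
  obtain ⟨b, hb, b', hb', rfl⟩ := mem_cell.1 hu
  obtain ⟨c, hc, c', hc', rfl⟩ := mem_cell.1 hv
  have e : b * s * b' * (c * n * c') = b * (s * (b' * c) * n) * c' := by group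
  rw [e]
  exact mul_mem_cell_right hc' (mul_mem_cell_left hb (mem_cell_of_len_le hs hn hl _ (mul_mem hb' hc)))

open scoped Classical in
lemma op_mul_up {s n : G} (hs : s ∈ P.S) (hn : n ∈ P.N) (hl : len P n ≤ len P (s * n)) :
    op P s * op P n = op P (s * n) := by
  ext x z
  induction x using QuotientGroup.induction_on with | _ g => ?_
  induction z using QuotientGroup.induction_on with | _ h => ?_
  rw [mul_op_apply, op_apply]
  split_ifs with hc
  · rw [show (1 : ℚ) = ((1 : ℕ) : ℚ) by simp, Nat.cast_inj, Finset.card_eq_one]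
    obtain ⟨b, hb, b', hb', e⟩ := mem_cell.1 hc
    refine ⟨((g * (b * s) : G) : Ω), Finset.eq_singleton_iff_unique_mem.2 ⟨?_, ?_⟩⟩
    · refine Finset.mem_filter.2 ⟨Finset.mem_univ _, ?_, ?_⟩
      · rw [cell_rep rfl (QuotientGroup.out_eq' _)]
        exact mem_cell.2 ⟨b, hb, 1, one_mem _, by group⟩
      · rw [cell_rep (QuotientGroup.out_eq' _) rfl]
        have : (g * (b * s))⁻¹ * h = n * b' := by
          calc (g * (b * s))⁻¹ * h = s⁻¹ * b⁻¹ * (g⁻¹ * h) := by group
            _ = n * b' := by rw [e]; group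
        rw [this]
        exact mul_mem_cell_right hb' (self_mem_cell n)
    · intro y hy
      obtain ⟨-, h1, h2⟩ := Finset.mem_filter.1 hy
      rw [← QuotientGroup.out_eq' y]
      by_contra hne
      have h1' : g⁻¹ * (g * (b * s)) ∈ cell P s := mem_cell.2 ⟨b, hb, 1, one_mem _, by group⟩
      rcases mul_cell_S hs (inv_mem_cell_S hs h1) h1' with hu | hu
      · apply hne
        rw [QuotientGroup.eq]
        simpa [mul_assoc] using hu
      · have h3 : (g * (b * s))⁻¹ * h ∈ cell P n := by
          have : (g * (b * s))⁻¹ * h = n * b' := by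
            calc (g * (b * s))⁻¹ * h = s⁻¹ * b⁻¹ * (g⁻¹ * h) := by group
              _ = n * b' := by rw [e]; group
          rw [this]
          exact mul_mem_cell_right hb' (self_mem_cell n)
        have := mul_cell_up hs hn hl hu h3
        rw [show (g⁻¹ * y.out)⁻¹ * (g⁻¹ * (g * (b * s))) * ((g * (b * s))⁻¹ * h) = y.out⁻¹ * h by
          group] at this
        exact not_eqv_S_mul hs hn (eqv_of_mem_cells (mul_mem (P.subset hs) hn) hn this h2)
  · rw [show (0 : ℚ) = ((0 : ℕ) : ℚ) by simp, Nat.cast_inj, Finset.card_eq_zero,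
      Finset.filter_eq_empty_iff]
    rintro y - ⟨h1, h2⟩
    apply hc
    have := mul_cell_up hs hn hl h1 h2
    rwa [show g⁻¹ * y.out * (y.out⁻¹ * h) = g⁻¹ * h by group] at this

variable (P) in
open scoped Classical in
/-- the parameter of a generator -/
noncomputable def ind (s : G) : ℕ := (Finset.univ.filter fun y : Ω => y.out ∈ cell P s).card

open scoped Classical in
lemma card_nbhd (s g : G) :
    (Finset.univ.filter fun y : Ω => g⁻¹ * y.out ∈ cell P s).card = ind P s := by
  have key : ∀ (a : G) (y : Ω), (a • y : Ω) = ((a * y.out : G) : Ω) := fun a y => by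
    rw [← smul_eq_mul, ← MulAction.Quotient.smul_coe, QuotientGroup.out_eq']
  refine Finset.card_bij' (fun y _ => g⁻¹ • y) (fun y _ => g • y) ?_ ?_ ?_ ?_
  · intro y hy
    refine Finset.mem_filter.2 ⟨Finset.mem_univ _, ?_⟩
    have e := cell_rep (n := s) (g := 1) (g' := 1) (h := (g⁻¹ • y).out) (h' := g⁻¹ * y.out) rfl
      (by rw [QuotientGroup.out_eq', key])
    simp only [inv_one, one_mul] at e
    exact e.2 (Finset.mem_filter.1 hy).2
  · intro y hy
    refine Finset.mem_filter.2 ⟨Finset.mem_univ _, ?_⟩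
    have e := cell_rep (n := s) (g := g) (g' := g) (h := (g • y).out) (h' := g * y.out) rfl
      (by rw [QuotientGroup.out_eq', key])
    refine e.2 ?_
    rw [inv_mul_cancel_left]
    exact (Finset.mem_filter.1 hy).2
  · intro y _; exact smul_inv_smul g y
  · intro y _; exact inv_smul_smul g y

lemma op_mulVec_one (s : G) : op P s *ᵥ (fun _ => (1 : ℚ)) = fun _ => (ind P s : ℚ) := by
  classical
  funext x
  induction x using QuotientGroup.induction_on with | _ g => ?_
  simp only [Matrix.mulVec, dotProduct, mul_one]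
  rw [← card_nbhd s g, ← Finset.sum_boole]
  refine Finset.sum_congr rfl fun y _ => ?_
  conv_lhs => rw [← QuotientGroup.out_eq' y, op_apply]

open scoped Classical in
lemma op_sq {s : G} (hs : s ∈ P.S) :
    op P s * op P s = ((ind P s : ℚ) - 1) • op P s + (ind P s : ℚ) • 1 := by
  ext x z
  induction x using QuotientGroup.induction_on with | _ g => ?_
  induction z using QuotientGroup.induction_on with | _ h => ?_
  have hns : ∀ u ∈ P.B, u ∉ cell P s := by
    intro u hu hc
    apply not_mem_B hs
    have h1 : cell P (1 : G) = cell P s := by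
      rw [← cell_eq_of_mem hc, cell_eq_B hu, cell_eq_B (one_mem _)]
    have := eqv_of_cell_eq (one_mem _) (P.subset hs) h1
    simpa [Eqv] using this
  rw [mul_op_apply, Matrix.add_apply, Matrix.smul_apply, Matrix.smul_apply, op_apply,
    Matrix.one_apply]
  by_cases hx : (g : Ω) = (h : Ω)
  · have hB : g⁻¹ * h ∈ P.B := QuotientGroup.eq.1 hx
    rw [if_neg (hns _ hB), if_pos hx, smul_zero, zero_add, smul_eq_mul, mul_one, Nat.cast_inj,
      ← card_nbhd s g]
    congr 1
    refine Finset.filter_congr fun y _ => and_iff_left_of_imp fun h1 => ?_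
    have := mul_mem_cell_right hB (inv_mem_cell_S hs h1)
    simpa [mul_assoc] using this
  rw [if_neg hx, smul_zero, add_zero]
  split_ifs with hc
  · rw [smul_eq_mul, mul_one]
    have hzmem : (h : Ω) ∈ Finset.univ.filter fun y : Ω => g⁻¹ * y.out ∈ cell P s :=
      Finset.mem_filter.2 ⟨Finset.mem_univ _, (cell_rep rfl (QuotientGroup.out_eq' _)).2 hc⟩
    have hpos : 1 ≤ ind P s := by rw [← card_nbhd s g]; exact Finset.card_pos.2 ⟨_, hzmem⟩
    rw [← Nat.cast_one, ← Nat.cast_sub hpos, Nat.cast_inj, ← card_nbhd s g,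
      ← Finset.card_erase_of_mem hzmem]
    congr 1
    ext y
    simp only [Finset.mem_filter, Finset.mem_univ, true_and, Finset.mem_erase]
    constructor
    · rintro ⟨h1, h2⟩
      refine ⟨?_, h1⟩
      rintro rfl
      refine hns _ ?_ h2
      exact QuotientGroup.eq.1 (QuotientGroup.out_eq' _)
    · rintro ⟨hne, h1⟩
      refine ⟨h1, ?_⟩
      rcases mul_cell_S hs (inv_mem_cell_S hs h1) hc with hu | hu
      · exfalso
        apply hne
        rw [← QuotientGroup.out_eq' y, QuotientGroup.eq]
        simpa [mul_assoc] using hu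
      · simpa [mul_assoc] using hu
  · rw [smul_zero, show (0 : ℚ) = ((0 : ℕ) : ℚ) by simp, Nat.cast_inj, Finset.card_eq_zero,
      Finset.filter_eq_empty_iff]
    rintro y - ⟨h1, h2⟩
    rcases mul_cell_S hs h1 h2 with hu | hu
    · apply hx
      rw [QuotientGroup.eq]
      simpa [mul_assoc] using hu
    · apply hc
      simpa [mul_assoc] using hu

lemma one_lt_ind {s : G} (hs : s ∈ P.S) : 1 < ind P s := by
  classical
  by_contra hlt
  rw [not_lt, ind, Finset.card_le_one] at hlt
  have key : ∀ b ∈ P.B, s⁻¹ * b * s ∈ P.B := by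
    intro b hb
    have m1 : ((s : G) : Ω).out ∈ cell P s := by
      have := (cell_rep (n := s) (g := 1) (g' := 1) (h := ((s : G) : Ω).out) (h' := s) rfl
        (QuotientGroup.out_eq' _))
      simp only [inv_one, one_mul] at this
      exact this.2 (self_mem_cell s)
    have m2 : ((b * s : G) : Ω).out ∈ cell P s := by
      have := (cell_rep (n := s) (g := 1) (g' := 1) (h := ((b * s : G) : Ω).out) (h' := b * s) rfl
        (QuotientGroup.out_eq' _))
      simp only [inv_one, one_mul] at this
      exact this.2 (mul_mem_cell_left hb (self_mem_cell s))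
    have := hlt _ (Finset.mem_filter.2 ⟨Finset.mem_univ _, m1⟩) _
      (Finset.mem_filter.2 ⟨Finset.mem_univ _, m2⟩)
    rw [QuotientGroup.eq] at this
    simpa [mul_assoc] using this
  refine P.conj_ne s hs (Set.ext fun x => ⟨?_, fun hx => ?_⟩)
  · rintro ⟨b, hb, rfl⟩
    have := mul_mem (P.sq_mem s hs) (key b hb)
    simpa [mul_assoc] using this
  · refine ⟨s⁻¹ * x * s⁻¹, ?_, by group⟩
    have := mul_mem (key x hx) (inv_mem (P.sq_mem s hs))
    simpa [mul_assoc] using this

open scoped Classical in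
lemma op_transpose {n : G} : (op P n)ᵀ = op P n⁻¹ := by
  ext x y
  induction x using QuotientGroup.induction_on with | _ g => ?_
  induction y using QuotientGroup.induction_on with | _ h => ?_
  rw [Matrix.transpose_apply, op_apply, op_apply]
  congr 1
  refine propext ⟨fun e => ?_, fun e => ?_⟩
  · simpa using inv_mem_cell e
  · simpa using inv_mem_cell e

lemma trace_op {n : G} (hn : n ∈ P.N) (hB : n ∉ P.B) : (op P n).trace = 0 := by
  classical
  refine Finset.sum_eq_zero fun x _ => ?_
  induction x using QuotientGroup.induction_on with | _ g => ?_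
  rw [Matrix.diag_apply, op_apply, if_neg]
  rw [inv_mul_cancel]
  intro h
  apply hB
  have := eqv_of_cell_eq (one_mem _) hn (cell_eq_of_mem h)
  simpa [Eqv] using this

lemma trace_op_mul {n n' : G} (hn : n ∈ P.N) (hn' : n' ∈ P.N) (h : ¬ Eqv P n' n⁻¹) :
    (op P n * op P n').trace = 0 := by
  classical
  refine Finset.sum_eq_zero fun x _ => ?_
  induction x using QuotientGroup.induction_on with | _ g => ?_
  rw [Matrix.diag_apply, mul_op_apply, Nat.cast_eq_zero, Finset.card_eq_zero,
    Finset.filter_eq_empty_iff]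
  rintro y - ⟨h1, h2⟩
  apply h
  have := inv_mem_cell h1
  rw [show (g⁻¹ * y.out)⁻¹ = y.out⁻¹ * g by group] at this
  exact eqv_of_mem_cells hn' (inv_mem hn) h2 this

end CfsgLib.Chev.FH
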