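/-
The theorem of Feit and Higman for (B,N)-pairs of rank two.
-/
import Cfsg.Agent.Lib.Chev.FH.Algebra
import Cfsg.Agent.Lib.Chev.FH.Hecke

set_option autoImplicit false
set_option linter.unusedSectionVars false

namespace CfsgLib.Chev.FH

lemma wd_add {M : Type*} [Monoid M] : ∀ (k d : ℕ) (a b : M),
    wd a b (k + d) = wd a b k * (if Even k then wd a b d else wd b a d)
  | 0, d, a, b => by simp [wd_zero]
  | k + 1, d, a, b => by
    rw [show k + 1 + d = k + d + 1 by ring, wd_succ, wd_succ, wd_add k d b a, mul_assoc]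
    congr 2
    by_cases hk : Even k <;> simp [hk, Nat.even_add_one]

/-! ### dihedral groups -/

section dihedral

variable {H : Type*} [Group H] {a b : H}

lemma wd_forms (ha : a * a = 1) (hb : b * b = 1) (i : ℕ) :
    wd a b (2 * i) = (a * b) ^ (i : ℤ) ∧ wd a b (2 * i + 1) = (a * b) ^ (i : ℤ) * a ∧
    wd b a (2 * i) = (a * b) ^ (-(i : ℤ)) ∧ wd b a (2 * i + 1) = (a * b) ^ (-((i : ℤ) + 1)) * a := by
  have hai : a⁻¹ = a := inv_eq_of_mul_eq_one_right ha
  have hbi : b⁻¹ = b := inv_eq_of_mul_eq_one_right hb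
  have hinv : b * a = (a * b)⁻¹ := by rw [mul_inv_rev, hai, hbi]
  refine ⟨by rw [wd_even, zpow_natCast], by rw [wd_odd, zpow_natCast], ?_, ?_⟩
  · rw [wd_even, hinv, _root_.zpow_neg, zpow_natCast, inv_pow]
  · rw [wd_odd, hinv, neg_add, zpow_add, _root_.zpow_neg, zpow_natCast, inv_pow, zpow_neg_one,
      mul_assoc _ (a * b)⁻¹, ← hinv, mul_assoc b, ha, mul_one]

lemma not_mem_zpowers (ha : a * a = 1) (hb : b * b = 1) (ha1 : a ≠ 1) (hb1 : b ≠ 1) (hab : a ≠ b) :
    a ∉ Subgroup.zpowers (a * b) := by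
  intro h
  obtain ⟨i, hi⟩ := Subgroup.mem_zpowers_iff.1 h
  have hai : a⁻¹ = a := inv_eq_of_mul_eq_one_right ha
  have hbi : b⁻¹ = b := inv_eq_of_mul_eq_one_right hb
  have hc : Commute a (a * b) := by
    have := Commute.zpow_self (a * b) i
    rwa [hi] at this
  have hcomm : a * b = b * a := by
    have := hc.eq
    rw [← mul_assoc, ha, one_mul] at this
    calc a * b = a * (a * b * a) := by rw [← this]
      _ = b * a := by rw [← mul_assoc, ← mul_assoc, ha, one_mul]
  have hsq : (a * b) * (a * b) = 1 := by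
    rw [mul_assoc, ← mul_assoc b a b, ← hcomm, mul_assoc a b b, hb, mul_one, ha]
  rcases Int.even_or_odd i with ⟨k, hk⟩ | ⟨k, hk⟩
  · rw [hk, ← two_mul, _root_.zpow_mul, zpow_two, hsq, one_zpow] at hi
    exact ha1 hi.symm
  · rw [hk, zpow_add, zpow_one, _root_.zpow_mul, zpow_two, hsq, one_zpow, one_mul] at hi
    exact hb1 (mul_eq_left.1 hi)

lemma conj_pow (ha : a * a = 1) (hb : b * b = 1) (i : ℤ) :
    a * (a * b) ^ i = (a * b) ^ (-i) * a := by
  have hai : a⁻¹ = a := inv_eq_of_mul_eq_one_right ha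
  have hbi : b⁻¹ = b := inv_eq_of_mul_eq_one_right hb
  have : a * (a * b) * a⁻¹ = (a * b)⁻¹ := by
    rw [hai, mul_inv_rev, hai, hbi, ← mul_assoc, ha, one_mul]
  rw [← mul_inv_eq_iff_eq_mul, ← conj_zpow, this, inv_zpow, zpow_neg]

lemma wd_inv (ha : a * a = 1) (hb : b * b = 1) (k : ℕ) :
    (wd a b k)⁻¹ = if Even k then wd b a k else wd a b k := by
  rcases Nat.even_or_odd' k with ⟨i, rfl | rfl⟩ <;> obtain ⟨f1, f2, f3, f4⟩ := wd_forms ha hb i
  · rw [if_pos (by simp), f1, f3, zpow_neg]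
  · rw [if_neg (by simp), f2]
    refine inv_eq_of_mul_eq_one_right ?_
    rw [mul_assoc, ← mul_assoc a, conj_pow ha hb, mul_assoc, ha, mul_one, ← zpow_add, add_neg_cancel,
      zpow_zero]

variable [Finite H]

lemma wd_ne (ha : a * a = 1) (hb : b * b = 1) (ha1 : a ≠ 1) (hb1 : b ≠ 1) (hab : a ≠ b)
    {j k : ℕ} (hjk : j < k) (hk : k ≤ orderOf (a * b)) :
    wd a b k ≠ wd a b j ∧ wd a b k ≠ wd b a j := by
  have hna := not_mem_zpowers ha hb ha1 hb1 hab
  have hpos : 0 < orderOf (a * b) := orderOf_pos _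
  have eqz : ∀ u v : ℤ, (a * b) ^ u = (a * b) ^ v → (orderOf (a * b) : ℤ) ∣ u - v := fun u v e => by
    rw [orderOf_dvd_iff_zpow_eq_one, zpow_sub, e, mul_inv_cancel]
  have hmix : ∀ u v : ℤ, (a * b) ^ u * a ≠ (a * b) ^ v := fun u v e => hna (by
    rw [← eq_inv_mul_iff_mul_eq] at e
    have hh := mul_mem (inv_mem (Subgroup.zpow_mem_zpowers (a * b) u))
      (Subgroup.zpow_mem_zpowers (a * b) v)
    rwa [← e] at hh)
  have small : ∀ u : ℤ, (orderOf (a * b) : ℤ) ∣ u → 0 ≤ u → u < orderOf (a * b) → u = 0 := fun u hd h0 h1 =>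
    Int.eq_zero_of_dvd_of_nonneg_of_lt h0 h1 hd
  rcases Nat.even_or_odd' k with ⟨i, rfl | rfl⟩ <;> rcases Nat.even_or_odd' j with ⟨l, rfl | rfl⟩ <;>
    obtain ⟨e1, e2, e3, e4⟩ := wd_forms ha hb i <;>
    obtain ⟨f1, f2, f3, f4⟩ := wd_forms ha hb l <;> constructor
  all_goals intro e
  · rw [e1, f1] at e; have := small _ (eqz _ _ e) (by omega) (by omega); omega
  · rw [e1, f3] at e; have := small _ (eqz _ _ e) (by omega) (by omega); omega
  · rw [e1, f2] at e; exact hmix _ _ e.symm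
  · rw [e1, f4] at e; exact hmix _ _ e.symm
  · rw [e2, f1] at e; exact hmix _ _ e
  · rw [e2, f3] at e; exact hmix _ _ e
  · rw [e2, f2] at e; have := small _ (eqz _ _ (mul_right_cancel e)) (by omega) (by omega); omega
  · rw [e2, f4] at e; have := small _ (eqz _ _ (mul_right_cancel e)) (by omega) (by omega); omega

lemma wd_braid (ha : a * a = 1) (hb : b * b = 1) :
    wd a b (orderOf (a * b)) = wd b a (orderOf (a * b)) := by
  have h1 : (a * b) ^ (orderOf (a * b) : ℤ) = 1 := by rw [zpow_natCast, pow_orderOf_eq_one]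
  have eqz : ∀ u v : ℤ, u = v + (orderOf (a * b) : ℤ) → (a * b) ^ u = (a * b) ^ v := fun u v e => by
    rw [e, zpow_add, h1, mul_one]
  rcases Nat.even_or_odd' (orderOf (a * b)) with ⟨i, hi | hi⟩ <;>
    obtain ⟨e1, e2, e3, e4⟩ := wd_forms ha hb i <;> rw [hi]
  · rw [e1, e3]; exact eqz _ _ (by omega)
  · rw [e2, e4, eqz _ _ (show (i : ℤ) = -((i : ℤ) + 1) + orderOf (a * b) by omega)]

lemma card_dihedral (ha : a * a = 1) (hb : b * b = 1) (ha1 : a ≠ 1) (hb1 : b ≠ 1) (hab : a ≠ b)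
    (hgen : Subgroup.closure {a, b} = ⊤) : Nat.card H = 2 * orderOf (a * b) := by
  classical
  set Z := Subgroup.zpowers (a * b) with hZ
  have hna := not_mem_zpowers ha hb ha1 hb1 hab
  have hai : a⁻¹ = a := inv_eq_of_mul_eq_one_right ha
  have hbi : b⁻¹ = b := inv_eq_of_mul_eq_one_right hb
  have hconj := conj_pow ha hb
  have step : ∀ y ∈ ({a, b} : Set H), ∀ z : H, (∃ i : ℤ, z = (a * b) ^ i ∨ z = (a * b) ^ i * a) →
      ∃ i : ℤ, y * z = (a * b) ^ i ∨ y * z = (a * b) ^ i * a := by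
    rintro y hy z ⟨i, e⟩
    have hbb : b = a * (a * b) := by rw [← mul_assoc, ha, one_mul]
    have hy' : ∃ t : ℤ, y * (a * b) ^ i = (a * b) ^ t * a := by
      rcases hy with rfl | hy
      · exact ⟨_, hconj i⟩
      · rw [Set.mem_singleton_iff] at hy
        refine ⟨-(1 + i), ?_⟩
        calc y * (a * b) ^ i = a * (a * b) * (a * b) ^ i := by rw [← hbb, hy]
          _ = _ := by rw [mul_assoc, ← zpow_one_add, hconj]
    obtain ⟨t, ht⟩ := hy'
    rcases e with rfl | rfl
    · exact ⟨t, Or.inr ht⟩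
    · exact ⟨t, Or.inl (by rw [← mul_assoc, ht, mul_assoc, ha, mul_one])⟩
  have hmem : ∀ x : H, ∃ i : ℤ, x = (a * b) ^ i ∨ x = (a * b) ^ i * a := by
    intro x
    have hx : x ∈ Subgroup.closure {a, b} := hgen ▸ Subgroup.mem_top x
    induction hx using Subgroup.closure_induction_left with
    | one => exact ⟨0, Or.inl (by simp)⟩
    | mul_left y hy z _ ih => exact step y hy z ih
    | inv_mul_cancel y hy z _ ih =>
      have hy' : y⁻¹ = y := by
        rcases hy with rfl | hy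
        · exact hai
        · rw [Set.mem_singleton_iff] at hy; subst hy; exact hbi
      rw [hy']
      exact step y hy z ih
  let f : Bool × Z → H := fun p => (p.2 : H) * (if p.1 then a else 1)
  have hf : Function.Bijective f := by
    refine ⟨?_, fun x => ?_⟩
    · rintro ⟨u, v⟩ ⟨u', v'⟩ e
      cases u <;> cases u' <;> simp only [f, if_true, Bool.false_eq_true, if_false, mul_one] at e
      · rw [Subtype.ext e]
      · exact absurd (by
          have := mul_mem (inv_mem v'.2) v.2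
          rwa [← eq_inv_mul_iff_mul_eq.2 e.symm] at this : a ∈ Z) hna
      · exact absurd (by
          have := mul_mem (inv_mem v.2) v'.2
          rwa [← eq_inv_mul_iff_mul_eq.2 e] at this : a ∈ Z) hna
      · rw [Subtype.ext (mul_right_cancel e)]
    · obtain ⟨i, e | e⟩ := hmem x
      · exact ⟨(false, ⟨_, Subgroup.zpow_mem_zpowers _ i⟩), by simp [f, e]⟩
      · exact ⟨(true, ⟨_, Subgroup.zpow_mem_zpowers _ i⟩), by simp [f, e]⟩
  rw [← Nat.card_eq_of_bijective f hf, Nat.card_prod, Nat.card_eq_fintype_card, Fintype.card_bool,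
    hZ, Nat.card_zpowers]

end dihedral

/-! ### the arithmetic -/

open Matrix

lemma geom_term {l z : ℂ} (hlz : z ≠ l) (hz : z ≠ 0) (m : ℕ) :
    ∑ j ∈ Finset.range m, (l / z) ^ j = (1 - (l / z) ^ m) * (z / (z - l)) := by
  have h1 : z - l ≠ 0 := sub_ne_zero.2 hlz
  have h2 : l / z ≠ 1 := by rw [Ne, div_eq_one_iff_eq hz]; exact fun e => hlz e.symm
  have e := mul_neg_geom_sum (l / z) m
  rw [← e]
  field_simp

section arith

variable {ι : Type*} [Fintype ι] [DecidableEq ι] {X Y : Matrix ι ι ℚ} {q r : ℚ} {m : ℕ}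
  (H : HData X Y q r m)
include H

lemma point {θ : ℝ} (hθ : Real.sin θ ≠ 0) (u : ℝ) (hu : u ^ 2 = ((q * r : ℚ) : ℝ)) (hu0 : 0 < u) :
    let z : ℂ := (u : ℂ) * Complex.exp (θ * Complex.I)
    let x : ℝ := 2 * u * Real.cos θ
    z ≠ 0 ∧ (x : ℂ) * z = z ^ 2 + ((q * r : ℚ) : ℂ) ∧ (∀ l : ℚ, z ≠ (l : ℂ)) ∧
      x ^ 2 < 4 * ((q * r : ℚ) : ℝ) := by
  intro z x
  have hz : z ≠ 0 := mul_ne_zero (by exact_mod_cast hu0.ne') (Complex.exp_ne_zero _)
  refine ⟨hz, ?_, fun l hl => ?_, ?_⟩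
  · have h2 := Complex.two_cos (θ : ℂ)
    have hu2 : ((q * r : ℚ) : ℂ) = (u : ℂ) ^ 2 := by
      rw [← Complex.ofReal_pow, hu]; norm_cast
    rw [hu2]
    show ((2 * u * Real.cos θ : ℝ) : ℂ) * _ = _
    push_cast
    rw [show (2 : ℂ) * u * Complex.cos θ = u * (2 * Complex.cos θ) by ring, h2]
    simp only [z, neg_mul, Complex.exp_neg]
    have := Complex.exp_ne_zero ((θ : ℂ) * Complex.I)
    field_simp
  · have h := congrArg Complex.im hl
    simp only [z, Complex.mul_im, Complex.ofReal_re, Complex.ofReal_im, Complex.exp_ofReal_mul_I_im,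
      zero_mul, add_zero, Complex.ratCast_im] at h
    exact mul_ne_zero hu0.ne' hθ h
  · show (2 * u * Real.cos θ) ^ 2 < _
    rw [← hu]
    have h1 := Real.sin_sq_add_cos_sq θ
    have h2 : 0 < Real.sin θ ^ 2 := by positivity
    nlinarith [pow_pos hu0 2]

lemma even_value {h : ℕ} (hm2 : m = 2 * h) {θ : ℝ} (hθ : Real.sin θ ≠ 0)
    (hm : Complex.exp (θ * Complex.I) ^ m = 1) :
    ∃ ν : ℚ, let x : ℝ := 2 * √((q * r : ℚ) : ℝ) * Real.cos θ
      (ν : ℝ) * ((q * r + 1 - x) * (q + r + x)) =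
        (q * r - 1) ^ 2 * (q + r + x) + (r - q) ^ 2 * (q * r + 1 - x) ∧
      x ^ 2 < 4 * ((q * r : ℚ) : ℝ) := by
  classical
  have hq := lt_trans zero_lt_one H.hq
  have hr := lt_trans zero_lt_one H.hr
  have hqr : (0 : ℝ) < ((q * r : ℚ) : ℝ) := by exact_mod_cast mul_pos hq hr
  set u := √((q * r : ℚ) : ℝ) with hu
  have hu2 : u ^ 2 = ((q * r : ℚ) : ℝ) := Real.sq_sqrt hqr.le
  obtain ⟨hz, hxz, hzl, hx⟩ := point H hθ u hu2 (Real.sqrt_pos.2 hqr)
  set z : ℂ := (u : ℂ) * Complex.exp (θ * Complex.I) with hzdef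
  have hzm : z ^ m = ((q * r : ℚ) : ℂ) ^ h := by
    rw [hzdef, mul_pow, hm, mul_one, hm2, pow_mul, ← Complex.ofReal_pow, hu2]; norm_cast
  have hv : ∀ c : ℚ × ℚ, (c.1 = q ∨ c.1 = -1) → (c.2 = r ∨ c.2 = -1) → Valid q r m c := fun c h1 h2 =>
    ⟨h1, h2, by rw [hm2, wd_even, wd_even, mul_comm]⟩
  set C : Finset (ℚ × ℚ) := {(q, r), (-1, -1), (q, -1), (-1, r)} with hC
  have hmemC : ∀ c ∈ C, (c.1 = q ∨ c.1 = -1) ∧ (c.2 = r ∨ c.2 = -1) := by
    intro c hc
    simp only [hC, Finset.mem_insert, Finset.mem_singleton] at hc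
    rcases hc with rfl | rfl | rfl | rfl <;> simp
  obtain ⟨ν, hν⟩ := H.rational_moments C (fun c hc => hv c (hmemC c hc).1 (hmemC c hc).2)
    (fun x y h1 h2 _ => by rcases h1 with rfl | rfl <;> rcases h2 with rfl | rfl <;> simp [hC])
    hz (h := h) (Or.inl ⟨hm2, hzm⟩)
  have hterm : ∀ c ∈ C, ((schur q r m c)⁻¹ : ℂ) * ∑ j ∈ Finset.range m, ((c.1 * c.2 : ℂ) / z) ^ j =
      (((1 - c.1 / q * c.1 * (c.2 / r * c.2)) /
        ((1 + c.1 / q * c.1) * (1 + c.2 / r * c.2)) : ℚ) : ℂ) * (z / (z - ((c.1 * c.2 : ℚ) : ℂ))) := by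
    intro c hc
    have hvc := hv c (hmemC c hc).1 (hmemC c hc).2
    have hS := H.schur_pos hvc
    set g1 := c.1 / q * c.1 with hg1
    set g2 := c.2 / r * c.2 with hg2
    have hp1 : 0 ≤ g1 := by
      rw [hg1, div_mul_eq_mul_div]; exact div_nonneg (mul_self_nonneg _) hq.le
    have hp2 : 0 ≤ g2 := by
      rw [hg2, div_mul_eq_mul_div]; exact div_nonneg (mul_self_nonneg _) hr.le
    have hs : schur q r m c * (1 - g1 * g2) = (1 + g1) * (1 + g2) * (1 - (g1 * g2) ^ h) := by
      rw [schur, mul_assoc, hm2, geom_even g1 g2 h]; ring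
    have hs' : (schur q r m c)⁻¹ * (1 - (g1 * g2) ^ h) = (1 - g1 * g2) / ((1 + g1) * (1 + g2)) := by
      have : (1 + g1) * (1 + g2) ≠ 0 := by positivity
      field_simp [hS.ne']
      linear_combination -hs
    rw [← hs', ← Rat.cast_mul c.1 c.2, geom_term (hzl _) hz, div_pow, hzm]
    push_cast
    rw [← mul_assoc]
    congr 2
    rw [hg1, hg2]
    have : (q : ℂ) ≠ 0 := by exact_mod_cast hq.ne'
    have : (r : ℂ) ≠ 0 := by exact_mod_cast hr.ne'
    push_cast
    rw [hm2, pow_mul, ← div_pow]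
    congr 2
    field_simp
  rw [Finset.sum_congr rfl hterm] at hν
  have n1 : (q, r) ∉ ({(-1, -1), (q, -1), (-1, r)} : Finset (ℚ × ℚ)) := by
    simp only [Finset.mem_insert, Finset.mem_singleton, Prod.ext_iff]
    rintro (⟨h1, -⟩ | ⟨-, h2⟩ | ⟨h1, -⟩) <;> linarith
  have n2 : ((-1, -1) : ℚ × ℚ) ∉ ({(q, -1), (-1, r)} : Finset (ℚ × ℚ)) := by
    simp only [Finset.mem_insert, Finset.mem_singleton, Prod.ext_iff]
    rintro (⟨h1, -⟩ | ⟨-, h2⟩) <;> linarith
  have n3 : ((q, -1) : ℚ × ℚ) ∉ ({(-1, r)} : Finset (ℚ × ℚ)) := by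
    simp only [Finset.mem_singleton, Prod.ext_iff]
    rintro ⟨h1, -⟩; linarith
  rw [hC, Finset.sum_insert n1, Finset.sum_insert n2, Finset.sum_insert n3,
    Finset.sum_singleton] at hν
  set x : ℝ := 2 * u * Real.cos θ with hxdef
  refine ⟨ν * ((1 + q) * (1 + r)), ?_, hx⟩
  have key : ((ν * ((1 + q) * (1 + r)) : ℚ) : ℂ) *
      (((q : ℂ) * r + 1 - (x : ℂ)) * ((q : ℂ) + r + (x : ℂ))) =
      ((q : ℂ) * r - 1) ^ 2 * ((q : ℂ) + r + x) + ((r : ℂ) - q) ^ 2 * ((q : ℂ) * r + 1 - x) := by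
    have a1 : z - ((q : ℂ) * r) ≠ 0 := sub_ne_zero.2 (by exact_mod_cast hzl (q * r))
    have a2 : z - 1 ≠ 0 := sub_ne_zero.2 (by exact_mod_cast hzl 1)
    have a3 : z + (q : ℂ) ≠ 0 := by
      intro e; exact hzl (-q) (by push_cast; linear_combination e)
    have a4 : z + (r : ℂ) ≠ 0 := by
      intro e; exact hzl (-r) (by push_cast; linear_combination e)
    have b1 : (z - (q : ℂ) * r) * (z - 1) = -(((q : ℂ) * r + 1 - x) * z) := by
      push_cast at hxz; linear_combination -hxz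
    have b2 : (z + (q : ℂ)) * (z + r) = ((q : ℂ) + r + x) * z := by
      push_cast at hxz; linear_combination -hxz
    have d1 : (q : ℂ) * r + 1 - x ≠ 0 := by
      intro e; rw [e, zero_mul, neg_zero] at b1; exact mul_ne_zero a1 a2 b1
    have d2 : (q : ℂ) + r + x ≠ 0 := by
      intro e; rw [e, zero_mul] at b2; exact mul_ne_zero a3 a4 b2
    have f1 : z / (z - 1) - z / (z - (q : ℂ) * r) = ((q : ℂ) * r - 1) / ((q : ℂ) * r + 1 - x) := by
      rw [div_sub_div _ _ a2 a1, div_eq_div_iff (mul_ne_zero a2 a1) d1]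
      linear_combination (-((q : ℂ) * r - 1)) * b1
    have f2 : z / (z + (q : ℂ)) - z / (z + r) = ((r : ℂ) - q) / ((q : ℂ) + r + x) := by
      rw [div_sub_div _ _ a3 a4, div_eq_div_iff (mul_ne_zero a3 a4) d2, b2]
      ring
    have hνv : ((ν * ((1 + q) * (1 + r)) : ℚ) : ℂ) =
        ((q : ℂ) * r - 1) * (z / (z - 1) - z / (z - (q : ℂ) * r)) +
          ((r : ℂ) - q) * (z / (z + (q : ℂ)) - z / (z + r)) := by
      have : (q : ℂ) ≠ 0 := by exact_mod_cast hq.ne'
      have : (r : ℂ) ≠ 0 := by exact_mod_cast hr.ne'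
      have : (1 : ℂ) + q ≠ 0 := by exact_mod_cast (by positivity : (1 : ℚ) + q ≠ 0)
      have : (1 : ℂ) + r ≠ 0 := by exact_mod_cast (by positivity : (1 : ℚ) + r ≠ 0)
      have : (q : ℂ) + 1 ≠ 0 := by rwa [add_comm]
      have : (r : ℂ) + 1 ≠ 0 := by rwa [add_comm]
      push_cast at hν ⊢
      simp only [neg_mul, mul_neg, one_mul, mul_one, neg_neg, sub_neg_eq_add] at hν
      rw [← hν]
      field_simp
      ring
    rw [hνv, f1, f2]
    field_simp
  exact_mod_cast key

lemma odd_value {h : ℕ} (hm2 : m = 2 * h + 1) {θ : ℝ} (hθ : Real.sin θ ≠ 0)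
    (hm : Complex.exp (θ * Complex.I) ^ m = 1) :
    ∃ ν : ℚ, (ν : ℝ) * ((q : ℝ) ^ 2 + 1 - 2 * (q : ℝ) * Real.cos θ) = ((q : ℝ) - 1) ^ 2 := by
  classical
  have hq := lt_trans zero_lt_one H.hq
  have hqr : q = r := H.qr ⟨h, hm2⟩
  subst hqr
  have hu0 : (0 : ℝ) < (q : ℝ) := by exact_mod_cast hq
  obtain ⟨hz, hxz, hzl, -⟩ := point H hθ (q : ℝ) (by push_cast; ring) hu0
  set z : ℂ := (((q : ℝ) : ℂ)) * Complex.exp (θ * Complex.I) with hzdef
  have hzm : z ^ m = (q : ℂ) ^ m := by rw [hzdef, mul_pow, hm, mul_one]; norm_cast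
  have hv : ∀ x : ℚ, x = q ∨ x = -1 → Valid q q m (x, x) := fun x h1 => ⟨h1, h1, rfl⟩
  set C : Finset (ℚ × ℚ) := {(q, q), (-1, -1)} with hC
  obtain ⟨ν, hν⟩ := H.rational_moments C
    (fun c hc => by
      simp only [hC, Finset.mem_insert, Finset.mem_singleton] at hc
      rcases hc with rfl | rfl
      exacts [hv q (Or.inl rfl), hv (-1) (Or.inr rfl)])
    (fun x y h1 h2 hb => by
      rw [hm2, wd_odd, wd_odd, mul_comm y x] at hb
      have hne : (x * y) ^ h ≠ 0 := by
        refine pow_ne_zero _ (mul_ne_zero ?_ ?_)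
        · rcases h1 with rfl | rfl <;> [exact hq.ne'; norm_num]
        · rcases h2 with rfl | rfl <;> [exact hq.ne'; norm_num]
      obtain rfl := mul_left_cancel₀ hne hb
      rcases h1 with rfl | rfl <;> simp [hC])
    hz (h := h) (Or.inr ⟨hm2, hzm⟩)
  have hterm : ∀ x : ℚ, x = q ∨ x = -1 →
      ((schur q q m (x, x))⁻¹ : ℂ) * ∑ j ∈ Finset.range m, ((x * x : ℂ) / z) ^ j =
      (((1 - x / q * x) / (1 + x / q * x) : ℚ) : ℂ) * (z / (z - ((x * x : ℚ) : ℂ))) := by
    intro x hx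
    have hS := H.schur_pos (hv x hx)
    set g := x / q * x with hg
    have hp : 0 ≤ g := by rw [hg, div_mul_eq_mul_div]; exact div_nonneg (mul_self_nonneg _) hq.le
    have hs : schur q q m (x, x) * (1 - g) = (1 + g) * (1 - g ^ m) := by
      rw [schur]
      simp only [wd_self, ← hg]
      rw [mul_assoc, geom_sum_mul_neg]
    have hs' : (schur q q m (x, x))⁻¹ * (1 - g ^ m) = (1 - g) / (1 + g) := by
      have : 1 + g ≠ 0 := by positivity
      field_simp [hS.ne']
      linear_combination -hs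
    rw [← hs', ← Rat.cast_mul x x, geom_term (hzl _) hz, div_pow, hzm]
    push_cast
    rw [← mul_assoc]
    congr 2
    rw [hg]
    push_cast
    rw [← div_pow]
    congr 2
    ring
  have n1 : ((q, q) : ℚ × ℚ) ∉ ({(-1, -1)} : Finset (ℚ × ℚ)) := by
    simp only [Finset.mem_singleton, Prod.ext_iff]
    rintro ⟨h1, -⟩; linarith
  rw [hC, Finset.sum_insert n1, Finset.sum_singleton, hterm q (Or.inl rfl),
    hterm (-1) (Or.inr rfl)] at hν
  refine ⟨ν, ?_⟩
  set x : ℝ := 2 * (q : ℝ) * Real.cos θ with hxdef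
  have key : (ν : ℂ) * ((q : ℂ) ^ 2 + 1 - (x : ℂ)) = ((q : ℂ) - 1) ^ 2 := by
    have a1 : z - ((q : ℂ) * q) ≠ 0 := sub_ne_zero.2 (by exact_mod_cast hzl (q * q))
    have a2 : z - 1 ≠ 0 := sub_ne_zero.2 (by exact_mod_cast hzl 1)
    have b1 : (z - (q : ℂ) * q) * (z - 1) = -(((q : ℂ) ^ 2 + 1 - x) * z) := by
      push_cast at hxz; linear_combination -hxz
    have d1 : (q : ℂ) ^ 2 + 1 - x ≠ 0 := by
      intro e; rw [e, zero_mul, neg_zero] at b1; exact mul_ne_zero a1 a2 b1
    have f1 : z / (z - 1) - z / (z - (q : ℂ) * q) = ((q : ℂ) * q - 1) / ((q : ℂ) ^ 2 + 1 - x) := by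
      rw [div_sub_div _ _ a2 a1, div_eq_div_iff (mul_ne_zero a2 a1) d1]
      linear_combination (-((q : ℂ) * q - 1)) * b1
    have hνv : (ν : ℂ) = ((q : ℂ) - 1) / ((q : ℂ) + 1) * (z / (z - 1) - z / (z - (q : ℂ) * q)) := by
      have : (q : ℂ) ≠ 0 := by exact_mod_cast hq.ne'
      have : (1 : ℂ) + q ≠ 0 := by exact_mod_cast (by positivity : (1 : ℚ) + q ≠ 0)
      have : (q : ℂ) + 1 ≠ 0 := by rwa [add_comm]
      rw [← hν]
      push_cast
      simp only [neg_mul, mul_neg, one_mul, mul_one, neg_neg]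
      field_simp
      ring
    have : (q : ℂ) + 1 ≠ 0 := by exact_mod_cast (by positivity : (q : ℚ) + 1 ≠ 0)
    rw [hνv, f1]
    field_simp
    ring
  exact_mod_cast key

theorem order_cases : m ∈ ({2, 3, 4, 6, 8} : Set ℕ) := by
  have hm := H.hm
  rcases hm.eq_or_lt with e | h3
  · simp [← e]
  have hq := lt_trans zero_lt_one H.hq
  have hr := lt_trans zero_lt_one H.hr
  have hqr : (0 : ℝ) < ((q * r : ℚ) : ℝ) := by exact_mod_cast mul_pos hq hr
  have hroot : ∀ k : ℕ, Complex.exp (((2 * Real.pi * k / m : ℝ) : ℂ) * Complex.I) ^ m = 1 := by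
    intro k
    rw [← Complex.exp_nat_mul]
    refine Complex.exp_eq_one_iff.2 ⟨k, ?_⟩
    have : (m : ℂ) ≠ 0 := by exact_mod_cast (by omega : m ≠ 0)
    push_cast; field_simp
  have hsin : ∀ k : ℕ, 0 < k → 2 * k < m → Real.sin (2 * Real.pi * k / m) ≠ 0 := by
    intro k hk hkm
    refine (Real.sin_pos_of_pos_of_lt_pi ?_ ?_).ne'
    · have : (0 : ℝ) < m := by exact_mod_cast (by omega : 0 < m)
      have : (0 : ℝ) < k := by exact_mod_cast hk
      positivity
    · rw [div_lt_iff₀ (by exact_mod_cast (by omega : 0 < m))]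
      have : (2 * k : ℝ) < m := by exact_mod_cast hkm
      nlinarith [Real.pi_pos]
  rcases Nat.even_or_odd' m with ⟨h, hm2 | hm2⟩
  · have rat : ∀ k : ℕ, 0 < k → 2 * k < m → ∃ t : ℚ,
        (t : ℝ) = 2 * √((q * r : ℚ) : ℝ) * Real.cos (2 * Real.pi * k / m) := by
      intro k hk hkm
      obtain ⟨ν, h1, hx⟩ := even_value H hm2 (hsin k hk hkm) (hroot k)
      have hs' : Real.sin (2 * Real.pi * k / m + Real.pi) ≠ 0 := by
        rw [Real.sin_add_pi, neg_ne_zero]; exact hsin k hk hkm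
      obtain ⟨ν', h2, -⟩ := even_value H hm2 hs' (by
        push_cast
        rw [add_mul, Complex.exp_add, mul_pow, Complex.exp_pi_mul_I]
        have := hroot k
        push_cast at this
        rw [this, one_mul, hm2, pow_mul, neg_one_sq, one_pow])
      rw [Real.cos_add_pi] at h2
      refine rational_of_two (ν' := ν') H.hq H.hr h1 ?_ ?_
      · simpa [mul_neg, sub_neg_eq_add, ← sub_eq_add_neg] using h2
      · simpa using hx
    obtain ⟨t, ht⟩ := rat 1 one_pos (by omega)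
    have hcos : Real.cos (((4 / m : ℚ) : ℝ) * Real.pi) = ((t ^ 2 / (2 * (q * r)) - 1 : ℚ) : ℝ) := by
      have e2 : ((4 / m : ℚ) : ℝ) * Real.pi = 2 * (2 * Real.pi * (1 : ℕ) / m) := by push_cast; ring
      rw [e2, Real.cos_two_mul]
      push_cast
      rw [ht, mul_pow, mul_pow, Real.sq_sqrt hqr.le]
      have : (q : ℝ) ≠ 0 := by exact_mod_cast hq.ne'
      have : (r : ℝ) ≠ 0 := by exact_mod_cast hr.ne'
      push_cast
      field_simp
    have hle : (4 : ℚ) ≤ m := by exact_mod_cast (by omega : 4 ≤ m)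
    have hmem := niven_angle_div_pi_eq ⟨_, hcos⟩
      ⟨by positivity, (div_le_one (by linarith)).2 hle⟩
    have hm0 : (m : ℚ) ≠ 0 := by positivity
    simp only [Set.mem_insert_iff, Set.mem_singleton_iff, div_eq_iff hm0] at hmem
    have hcases : m = 12 ∨ m = 8 ∨ m = 6 ∨ m = 4 := by
      rcases hmem with e | e | e | e | e
      · norm_num at e
      · left; exact_mod_cast (by linarith : (m : ℚ) = 12)
      · right; left; exact_mod_cast (by linarith : (m : ℚ) = 8)
      · right; right; left; exact_mod_cast (by linarith : (m : ℚ) = 6)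
      · right; right; right; exact_mod_cast (by linarith : (m : ℚ) = 4)
    rcases hcases with e | e | e | e
    · exfalso
      obtain ⟨t', ht'⟩ := rat 2 (by norm_num) (by omega)
      subst e
      rw [show 2 * Real.pi * ((1 : ℕ) : ℝ) / ((12 : ℕ) : ℝ) = Real.pi / 6 by push_cast; ring,
        Real.cos_pi_div_six] at ht
      rw [show 2 * Real.pi * ((2 : ℕ) : ℝ) / ((12 : ℕ) : ℝ) = Real.pi / 3 by push_cast; ring,
        Real.cos_pi_div_three] at ht'
      have hne : (t' : ℝ) ≠ 0 := by rw [ht']; positivity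
      refine (by simpa using Nat.prime_three.irrational_sqrt : Irrational (√(3 : ℝ))) ⟨t / t', ?_⟩
      push_cast
      rw [eq_comm, eq_div_iff hne, ht, ht']
      ring
    all_goals simp [e]
  · obtain ⟨ν, hν⟩ := odd_value H hm2 (hsin 1 one_pos (by omega)) (hroot 1)
    have hq1 : (q : ℝ) - 1 ≠ 0 := by
      rw [sub_ne_zero]; exact_mod_cast H.hq.ne'
    have hν0 : (ν : ℝ) ≠ 0 := by
      intro e; rw [e, zero_mul] at hν; exact pow_ne_zero 2 hq1 hν.symm
    have hcos : Real.cos (((2 / m : ℚ) : ℝ) * Real.pi) =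
        (((q ^ 2 + 1 - (q - 1) ^ 2 / ν) / (2 * q) : ℚ) : ℝ) := by
      have e2 : ((2 / m : ℚ) : ℝ) * Real.pi = 2 * Real.pi * (1 : ℕ) / m := by push_cast; ring
      rw [e2]
      push_cast at hν ⊢
      have : (q : ℝ) ≠ 0 := by exact_mod_cast hq.ne'
      field_simp at hν ⊢
      linear_combination -hν
    have hle : (3 : ℚ) ≤ m := by exact_mod_cast (by omega : 3 ≤ m)
    have hmem := niven_angle_div_pi_eq ⟨_, hcos⟩
      ⟨by positivity, (div_le_one (by linarith)).2 (by linarith)⟩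
    have hm0 : (m : ℚ) ≠ 0 := by positivity
    simp only [Set.mem_insert_iff, Set.mem_singleton_iff, div_eq_iff hm0] at hmem
    rcases hmem with e | e | e | e | e
    · norm_num at e
    · have : m = 6 := by exact_mod_cast (by linarith : (m : ℚ) = 6)
      omega
    · have : m = 4 := by exact_mod_cast (by linarith : (m : ℚ) = 4)
      omega
    · have : m = 3 := by exact_mod_cast (by linarith : (m : ℚ) = 3)
      simp [this]
    · have : m = 2 := by exact_mod_cast (by linarith : (m : ℚ) = 2)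
      omega

end arith

/-! ### groups -/

open Cfsg CfsgLib.Chev.BN

variable {G : Type*} [Group G] [Finite G] {P : Cfsg.BNPair G}

theorem weyl_index (h2 : P.rank = 2) :
    ((P.B ⊓ P.N).subgroupOf P.N).index ∈ ({4, 6, 8, 12, 16} : Set ℕ) := by
  classical
  letI : Fintype (G ⧸ P.B) := Fintype.ofFinite _
  have hnormal : ((P.B ⊓ P.N).subgroupOf P.N).Normal :=
    ⟨fun t ht n => conj_mem_T (P := P) n.2 ht⟩
  let π := QuotientGroup.mk' ((P.B ⊓ P.N).subgroupOf P.N)
  have hπ : ∀ x y : P.N, π x = π y ↔ Eqv P (x : G) y := by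
    intro x y
    refine QuotientGroup.eq.trans ?_
    rw [Subgroup.mem_subgroupOf, Subgroup.mem_inf]
    exact ⟨fun h => h.1, fun h => ⟨h, mul_mem (inv_mem x.2) y.2⟩⟩
  obtain ⟨s, r, hsr, hS⟩ : ∃ s r, s ≠ r ∧ P.S = {s, r} := by
    have : P.S.ncard = 2 := by rw [← Nat.card_coe_set_eq]; exact h2
    exact Set.ncard_eq_two.1 this
  have hs : s ∈ P.S := by simp [hS]
  have hr : r ∈ P.S := by simp [hS]
  let sN : P.N := ⟨s, P.subset hs⟩
  let rN : P.N := ⟨r, P.subset hr⟩
  set a := π sN with ha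
  set b := π rN with hb
  have e1 : ∀ u : G, ∀ hu : u ∈ P.S, π ⟨u, P.subset hu⟩ * π ⟨u, P.subset hu⟩ = 1 ∧
      π ⟨u, P.subset hu⟩ ≠ 1 := by
    intro u hu
    rw [← map_mul, ← map_one π]
    refine ⟨(hπ _ _).2 ?_, fun e => not_mem_B hu ?_⟩
    · simpa [Eqv] using inv_mem (P.sq_mem u hu)
    · simpa [Eqv] using (hπ _ _).1 e
  obtain ⟨ha2, ha1⟩ := e1 s hs
  obtain ⟨hb2, hb1⟩ := e1 r hr
  have hab : a ≠ b := fun e => hsr (P.inj s hs r hr ((hπ _ _).1 e))
  set m := orderOf (a * b) with hm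
  have hgen : Subgroup.closure {a, b} = ⊤ := by
    rw [eq_top_iff]
    intro x _
    obtain ⟨n, rfl⟩ := QuotientGroup.mk'_surjective _ x
    obtain ⟨l, hl, e⟩ := exists_word (P := P) n.2
    have hlN : l.prod ∈ P.N := prod_mem_N hl
    rw [show QuotientGroup.mk' ((P.B ⊓ P.N).subgroupOf P.N) n = π ⟨l.prod, hlN⟩ from
      ((hπ ⟨l.prod, hlN⟩ n).2 e).symm]
    clear e
    induction l with
    | nil => exact (show π (⟨_, hlN⟩ : P.N) = 1 by rw [← map_one π]; rfl) ▸ one_mem _
    | cons y t ih =>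
      have ht : ∀ w ∈ t, w ∈ P.S := fun w hw => hl w (by simp [hw])
      have hy : y ∈ P.S := hl y (by simp)
      rw [show (⟨(y :: t).prod, hlN⟩ : P.N) = ⟨y, P.subset hy⟩ * ⟨t.prod, prod_mem_N ht⟩ from
        Subtype.ext (by simp), map_mul]
      refine mul_mem ?_ (ih ht (prod_mem_N ht))
      rw [hS] at hy
      rcases hy with rfl | hy
      · exact Subgroup.subset_closure (Or.inl rfl)
      · rw [Set.mem_singleton_iff] at hy
        subst hy
        exact Subgroup.subset_closure (Or.inr rfl)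
  have hcard : ((P.B ⊓ P.N).subgroupOf P.N).index = 2 * m := by
    rw [Subgroup.index_eq_card]
    exact card_dihedral ha2 hb2 ha1 hb1 hab hgen
  -- words
  have wN : ∀ k, wd s r k ∈ P.N ∧ wd r s k ∈ P.N := fun k => by
    have := fun (x y : P.N) => map_wd P.N.subtype k x y
    exact ⟨(this sN rN) ▸ (wd sN rN k).2, (this rN sN) ▸ (wd rN sN k).2⟩
  have wπ : ∀ k, π ⟨wd s r k, (wN k).1⟩ = wd a b k ∧ π ⟨wd r s k, (wN k).2⟩ = wd b a k := fun k => by
    have h1 : (⟨wd s r k, (wN k).1⟩ : P.N) = wd sN rN k := Subtype.ext (map_wd P.N.subtype k sN rN).symm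
    have h2 : (⟨wd r s k, (wN k).2⟩ : P.N) = wd rN sN k := Subtype.ext (map_wd P.N.subtype k rN sN).symm
    rw [h1, h2]
    exact ⟨map_wd π k sN rN, map_wd π k rN sN⟩
  have wle : ∀ k, len P (wd s r k) ≤ k ∧ len P (wd r s k) ≤ k := by
    intro k
    induction k with
    | zero => exact ⟨len_le (l := []) (by simp) (eqv_refl _), len_le (l := []) (by simp) (eqv_refl _)⟩
    | succ k ih =>
      refine ⟨(len_S_mul_le hs (wN k).2).trans ?_, (len_S_mul_le hr (wN k).1).trans ?_⟩ <;> omega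
  have wred : ∀ l : List G, Reduced P l → l.prod = wd s r l.length ∨ l.prod = wd r s l.length := by
    intro l hl
    induction l with
    | nil => left; rfl
    | cons y t ih =>
      have hy : y ∈ P.S := hl.1 y (by simp)
      have ht := reduced_tail hl
      have hlen : len P (y * t.prod) = t.length + 1 := by simpa using hl.2
      simp only [List.prod_cons, List.length_cons]
      cases t with
      | nil =>
        rw [hS] at hy
        rcases hy with rfl | hy
        · left; simp [wd]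
        · right; rw [Set.mem_singleton_iff] at hy; simp [wd, hy]
      | cons w t' =>
        have same : ∀ x : G, x ∈ P.S → ∀ z : G, z ∈ P.N → len P z ≤ t'.length →
            len P (x * (x * z)) ≠ (w :: t').length + 1 := by
          intro x hx z hz hlz
          rw [len_congr (sq_mul_eqv hx hz), List.length_cons]
          omega
        rw [hS] at hy
        rcases hy with rfl | hy
        · rcases ih ht with e | e
          · exfalso
            rw [e, List.length_cons, wd_succ] at hlen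
            exact same _ hs _ (wN _).2 (wle _).2 hlen
          · left; rw [e]; rfl
        · rw [Set.mem_singleton_iff] at hy
          subst hy
          rcases ih ht with e | e
          · right; rw [e]; rfl
          · exfalso
            rw [e, List.length_cons, wd_succ] at hlen
            exact same _ hr _ (wN _).1 (wle _).1 hlen
  have hm' : orderOf (b * a) = m := by
    have : b * a = (a * b)⁻¹ := by
      rw [_root_.mul_inv_rev, inv_eq_of_mul_eq_one_right ha2, inv_eq_of_mul_eq_one_right hb2]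
    rw [this, orderOf_inv]
  have wlen : ∀ k, k ≤ m → len P (wd s r k) = k ∧ len P (wd r s k) = k := by
    intro k hk
    constructor <;>
    · refine le_antisymm (by first | exact (wle k).1 | exact (wle k).2) (le_of_not_gt fun hlt => ?_)
      first
      | obtain ⟨l, hl, e⟩ := exists_reduced (P := P) (wN k).1
        rw [← len_congr e, hl.2] at hlt
        rcases wred l hl with e' | e' <;> rw [e'] at e
        · have := (hπ ⟨_, (wN _).1⟩ ⟨_, (wN k).1⟩).2 e
          rw [(wπ _).1, (wπ _).1] at this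
          exact (wd_ne ha2 hb2 ha1 hb1 hab hlt hk).1 this.symm
        · have := (hπ ⟨_, (wN _).2⟩ ⟨_, (wN k).1⟩).2 e
          rw [(wπ _).2, (wπ _).1] at this
          exact (wd_ne ha2 hb2 ha1 hb1 hab hlt hk).2 this.symm
      | obtain ⟨l, hl, e⟩ := exists_reduced (P := P) (wN k).2
        rw [← len_congr e, hl.2] at hlt
        rcases wred l hl with e' | e' <;> rw [e'] at e
        · have := (hπ ⟨_, (wN _).1⟩ ⟨_, (wN k).2⟩).2 e
          rw [(wπ _).1, (wπ _).2] at this
          exact (wd_ne hb2 ha2 hb1 ha1 hab.symm hlt (hm'.symm ▸ hk)).2 this.symm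
        · have := (hπ ⟨_, (wN _).2⟩ ⟨_, (wN k).2⟩).2 e
          rw [(wπ _).2, (wπ _).2] at this
          exact (wd_ne hb2 ha2 hb1 ha1 hab.symm hlt (hm'.symm ▸ hk)).1 this.symm
  set X := op P s with hX
  set Y := op P r with hY
  have wop : ∀ k, k ≤ m → op P (wd s r k) = wd X Y k ∧ op P (wd r s k) = wd Y X k := by
    intro k
    induction k with
    | zero => intro _; exact ⟨op_eq_one (one_mem _), op_eq_one (one_mem _)⟩
    | succ k ih =>
      intro hk
      obtain ⟨i1, i2⟩ := ih (by omega)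
      obtain ⟨l1, l2⟩ := wlen (k + 1) hk
      obtain ⟨k1, k2⟩ := wlen k (by omega)
      rw [wd_succ] at l1 l2
      constructor
      · rw [wd_succ, ← op_mul_up hs (wN k).2 (by omega), i2]; rfl
      · rw [wd_succ, ← op_mul_up hr (wN k).1 (by omega), i1]; rfl
  have hbraidE : Eqv P (wd s r m) (wd r s m) := by
    refine (hπ ⟨_, (wN m).1⟩ ⟨_, (wN m).2⟩).1 ?_
    rw [(wπ m).1, (wπ m).2, hm]
    exact wd_braid ha2 hb2
  have hbraid : wd X Y m = wd Y X m := by
    rw [← (wop m le_rfl).1, ← (wop m le_rfl).2]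
    exact op_congr hbraidE
  have htr : ∀ k, 1 ≤ k → k ≤ m → (wd X Y k).trace = 0 ∧ (wd Y X k).trace = 0 := by
    intro k h1 hk
    rw [← (wop k hk).1, ← (wop k hk).2]
    constructor <;> refine trace_op (by first | exact (wN k).1 | exact (wN k).2) fun hB => ?_
    · have := (len_eq_zero (wN k).1).2 hB; have := (wlen k hk).1; omega
    · have := (len_eq_zero (wN k).2).2 hB; have := (wlen k hk).2; omega
  have hm2 : 2 ≤ m := by
    have h0 : 0 < m := orderOf_pos _
    by_contra hlt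
    have : orderOf (a * b) = 1 := by omega
    exact hab ((mul_eq_one_iff_eq_inv.1 (orderOf_eq_one_iff.1 this)).trans
      (inv_eq_of_mul_eq_one_right hb2))
  have htop : ∀ k, k < m → ¬ Eqv P (wd s r k) (wd s r m)⁻¹ ∧ ¬ Eqv P (wd r s k) (wd s r m)⁻¹ := by
    intro k hk
    have hinv : (wd a b m)⁻¹ = wd a b m := by
      have hbr := wd_braid ha2 hb2
      rw [← hm] at hbr
      rw [wd_inv ha2 hb2]
      split_ifs
      exacts [hbr.symm, rfl]
    constructor <;> intro e
    · have := (hπ ⟨_, (wN k).1⟩ (⟨_, (wN m).1⟩⁻¹)).2 e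
      rw [map_inv, (wπ k).1, (wπ m).1, hinv] at this
      exact (wd_ne ha2 hb2 ha1 hb1 hab hk le_rfl).1 this.symm
    · have := (hπ ⟨_, (wN k).2⟩ (⟨_, (wN m).1⟩⁻¹)).2 e
      rw [map_inv, (wπ k).2, (wπ m).1, hinv] at this
      exact (wd_ne ha2 hb2 ha1 hb1 hab hk le_rfl).2 this.symm
  have hone : ∀ k, wd X Y k *ᵥ (fun _ => (1 : ℚ)) = (fun _ => wd (ind P s : ℚ) (ind P r) k) ∧
      wd Y X k *ᵥ (fun _ => (1 : ℚ)) = fun _ => wd (ind P r : ℚ) (ind P s) k := by
    intro k
    induction k with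
    | zero => simp [wd_zero]
    | succ k ih =>
      have hs' : ∀ c : ℚ, (fun _ : G ⧸ P.B => c) = c • fun _ => (1 : ℚ) := fun c => by
        funext; simp
      constructor
      · rw [wd_succ, ← Matrix.mulVec_mulVec, ih.2, hs', Matrix.mulVec_smul, op_mulVec_one]
        funext; simp [wd_succ, mul_comm]
      · rw [wd_succ, ← Matrix.mulVec_mulVec, ih.1, hs', Matrix.mulVec_smul, op_mulVec_one]
        funext; simp [wd_succ, mul_comm]
  have H : HData X Y (ind P s : ℚ) (ind P r) m :=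
    { hX := op_sq hs
      hY := op_sq hr
      hq := by exact_mod_cast one_lt_ind hs
      hr := by exact_mod_cast one_lt_ind hr
      hm := hm2
      symX := op_transpose.trans (op_congr (inv_eqv_self hs))
      symY := op_transpose.trans (op_congr (inv_eqv_self hr))
      braid := hbraid
      trX := fun k h1 h2 => (htr k h1 h2).1
      trY := fun k h1 h2 => (htr k h1 h2).2
      trM := by
        intro j h1 hj
        rw [← wd_even]
        rcases le_or_gt (2 * j) m with hle | hgt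
        · exact (htr _ (by omega) hle).1
        obtain ⟨d, hd⟩ := Nat.exists_eq_add_of_le hgt.le
        have hdm : d < m := by omega
        rw [hd, wd_add m d, ← (wop m le_rfl).1]
        split_ifs
        · rw [← (wop d hdm.le).1]
          exact trace_op_mul (wN m).1 (wN d).1 (htop d hdm).1
        · rw [← (wop d hdm.le).2]
          exact trace_op_mul (wN m).1 (wN d).2 (htop d hdm).2
      qr := fun ⟨i, hi⟩ => by
        have e := (hone m).1
        rw [hbraid, (hone m).2] at e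
        have := congrFun e ((1 : G) : G ⧸ P.B)
        rw [hi, wd_odd, wd_odd, mul_comm (ind P r : ℚ) (ind P s)] at this
        refine (mul_left_cancel₀ (pow_ne_zero _ (mul_ne_zero ?_ ?_)) this).symm
        · have := one_lt_ind hs
          exact_mod_cast (show ind P s ≠ 0 by omega)
        · have := one_lt_ind hr
          exact_mod_cast (show ind P r ≠ 0 by omega)
      ne := ⟨((1 : G) : G ⧸ P.B)⟩ }
  have := order_cases H
  rw [hcard]
  simp only [Set.mem_insert_iff, Set.mem_singleton_iff] at this ⊢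
  omega

end CfsgLib.Chev.FH
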